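import Mathlib

/-!
Adjoining one hyperbolic line: a group generated by a copy of an isometry group of a symplectic space,
a copy of `SL₂` and a family of Siegel elements, subject to five relations, acts faithfully on the
enlarged space.
-/

set_option autoImplicit false
set_option linter.unusedSimpArgs false

namespace Cfsg.Agent.SpAmalgam

open Matrix
open scoped Pointwise

variable {F : Type*} [Field F]

section SL2

variable (F)

abbrev S2 : Type _ := SpecialLinearGroup (Fin 2) F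

variable {F}

def uu (c : F) : S2 F := ⟨!![1, c; 0, 1], by simp [Matrix.det_fin_two]⟩

def ll (c : F) : S2 F := ⟨!![1, 0; c, 1], by simp [Matrix.det_fin_two]⟩

def dd (c : Fˣ) : S2 F := ⟨!![(c : F), 0; 0, (c : F)⁻¹], by simp [Matrix.det_fin_two]⟩

def ss : S2 F := ⟨!![0, -1; 1, 0], by simp [Matrix.det_fin_two]⟩

theorem vMul (x y : S2 F) : (x * y).1 = x.1 * y.1 := rfl

theorem uu_val (c : F) : (uu c).1 = !![1, c; 0, 1] := rfl
theorem ll_val (c : F) : (ll c).1 = !![1, 0; c, 1] := rfl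
theorem dd_val (c : Fˣ) : (dd c).1 = !![(c : F), 0; 0, (c : F)⁻¹] := rfl
theorem ss_val : (ss : S2 F).1 = !![0, -1; 1, 0] := rfl

theorem uu_mul (a b : F) : uu a * uu b = uu (a + b) := by
  apply Subtype.ext; simp [vMul, uu_val, Matrix.mul_fin_two, add_comm]

theorem uu_zero : uu (0 : F) = 1 := by
  apply Subtype.ext; simp [uu_val, Matrix.one_fin_two]

theorem uu_inv (a : F) : (uu a)⁻¹ = uu (-a) :=
  inv_eq_of_mul_eq_one_right (by rw [uu_mul, add_neg_cancel, uu_zero])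

theorem ll_mul (a b : F) : ll a * ll b = ll (a + b) := by
  apply Subtype.ext; simp [vMul, ll_val, Matrix.mul_fin_two]

theorem ll_zero : ll (0 : F) = 1 := by
  apply Subtype.ext; simp [ll_val, Matrix.one_fin_two]

theorem ll_inv (a : F) : (ll a)⁻¹ = ll (-a) :=
  inv_eq_of_mul_eq_one_right (by rw [ll_mul, add_neg_cancel, ll_zero])

theorem dd_inv (c : Fˣ) : (dd c)⁻¹ = dd c⁻¹ :=
  inv_eq_of_mul_eq_one_right (by apply Subtype.ext; simp [vMul, dd_val, Matrix.mul_fin_two, Matrix.one_fin_two])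

theorem ss_mul_dd (c : Fˣ) : ss * dd c = dd c⁻¹ * ss := by
  apply Subtype.ext; simp [vMul, ss_val, dd_val, Matrix.mul_fin_two]

theorem ss_sq : (ss : S2 F) * ss = dd (-1) := by
  apply Subtype.ext; simp [vMul, ss_val, dd_val, Matrix.mul_fin_two]

theorem ss_uu (a : F) : ss * uu a = ll (-a) * ss := by
  apply Subtype.ext; simp [vMul, ss_val, uu_val, ll_val, Matrix.mul_fin_two]

theorem ss_ll (a : F) : ss * ll a = uu (-a) * ss := by
  apply Subtype.ext; simp [vMul, ss_val, uu_val, ll_val, Matrix.mul_fin_two]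

theorem eq_mul_uu (g : S2 F) (h1 : g.1 1 0 = 0) (h0 : g.1 0 0 = 1) : g = uu (g.1 0 1) := by
  have hd : g.1 0 0 * g.1 1 1 - g.1 0 1 * g.1 1 0 = 1 := by rw [← Matrix.det_fin_two]; exact g.2
  rw [h1, h0, one_mul, mul_zero, sub_zero] at hd
  apply Subtype.ext
  ext i j
  fin_cases i <;> fin_cases j <;> simp [uu_val, h1, h0, hd]

theorem sl2_induction {p : S2 F → Prop} (hu : ∀ a, p (uu a)) (hl : ∀ a, p (ll a))
    (hm : ∀ g h, p g → p h → p (g * h)) (g : S2 F) : p g := by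
  have key : ∀ g : S2 F, g.1 1 0 ≠ 0 → p g := by
    intro g h
    have hd : g.1 0 0 * g.1 1 1 - g.1 0 1 * g.1 1 0 = 1 := by rw [← Matrix.det_fin_two]; exact g.2
    have he : g = uu ((g.1 0 0 - 1) / g.1 1 0) * ll (g.1 1 0) * uu ((g.1 1 1 - 1) / g.1 1 0) := by
      apply Subtype.ext
      ext i j
      fin_cases i <;> fin_cases j <;> simp [vMul, uu_val, ll_val, Matrix.mul_fin_two] <;> field_simp <;>
        first | ring1 | linear_combination (-1 : F) * hd | linear_combination hd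
    rw [he]
    exact hm _ _ (hm _ _ (hu _) (hl _)) (hu _)
  by_cases h : g.1 1 0 = 0
  · have hd : g.1 0 0 * g.1 1 1 - g.1 0 1 * g.1 1 0 = 1 := by rw [← Matrix.det_fin_two]; exact g.2
    rw [show g = ll (-1) * (ll 1 * g) by rw [← mul_assoc, ll_mul, neg_add_cancel, ll_zero, one_mul]]
    refine hm _ _ (hl _) (key _ ?_)
    have h00 : g.1 0 0 ≠ 0 := fun e => by rw [h, e, zero_mul, mul_zero, sub_zero] at hd; exact zero_ne_one hd
    simpa [vMul, ll_val, Matrix.mul_apply, Fin.sum_univ_two, h] using h00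
  · exact key g h

end SL2

/-- The data for adjoining a hyperbolic line to a symplectic space `A`. -/
structure Stage (F : Type*) [Field F] (A : Type*) [AddCommGroup A] [Module F A] (Γ : Type*) [Group Γ]
    (K : Type*) [Group K] (V : Type*) where
  ω : A →ₗ[F] A →ₗ[F] F
  alt : ∀ u, ω u u = 0
  nondeg : ∀ u, u ≠ 0 → ∃ a, ω u a = 1
  ga : Γ →* (A →ₗ[F] A)
  ga_ω : ∀ h u v, ω (ga h u) (ga h v) = ω u v
  ga_inj : ∀ h, (∀ u, ga h u = u) → h = 1
  act : K → V → V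
  act_one : ∀ v, act 1 v = v
  act_mul : ∀ j k v, act (j * k) v = act j (act k v)
  ι : A × F × F → V
  ι_inj : Function.Injective ι
  σ : S2 F →* K
  η : Γ →* K
  Q : A → K
  τ : A → F → Γ
  τ_eq : ∀ a c u, ga (τ a c) u = u + (c * ω u a) • a
  σ_act : ∀ g u α β, act (σ g) (ι (u, α, β)) =
    ι (u, g.1 0 0 * α + g.1 0 1 * β, g.1 1 0 * α + g.1 1 1 * β)
  η_act : ∀ h u α β, act (η h) (ι (u, α, β)) = ι (ga h u, α, β)
  Q_act : ∀ a u α β, act (Q a) (ι (u, α, β)) = ι (u - β • a, α + ω u a, β)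
  R1 : ∀ g h, Commute (σ g) (η h)
  R2 : ∀ h a, η h * Q a = Q (ga h a) * η h
  R3 : ∀ a b, Q a * Q b = Q (a + b) * σ (uu (ω a b))
  R4u : ∀ k a, Commute (σ (uu k)) (Q a)
  R4d : ∀ (c : Fˣ) a, σ (dd c) * Q a = Q ((c : F) • a) * σ (dd c)
  R5 : ∀ c a, σ (ll c) * Q a =
    Q a * (σ ss * Q (c • a) * (σ ss)⁻¹) * η (τ a c) * σ (ll c)

namespace Stage

variable {A : Type*} [AddCommGroup A] [Module F A] {Γ : Type*} [Group Γ] {K : Type*} [Group K]
  {V : Type*} (S : Stage F A Γ K V)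

theorem anti (u v : A) : S.ω v u = -S.ω u v := by
  have h := S.alt (u + v)
  simp only [map_add, LinearMap.add_apply, S.alt u, S.alt v, zero_add, add_zero] at h
  linear_combination h

theorem Q_zero : S.Q 0 = 1 := by
  have h := S.R3 0 0
  rw [add_zero, map_zero, uu_zero, map_one, mul_one] at h
  exact mul_eq_left.1 h

theorem Q_inv (a : A) : (S.Q a)⁻¹ = S.Q (-a) := by
  refine inv_eq_of_mul_eq_one_right ?_
  rw [S.R3, add_neg_cancel, S.Q_zero, map_neg, S.alt, neg_zero, uu_zero, map_one, one_mul]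

/-- The opposite Siegel elements. -/
def Qm (a : A) : K := S.σ ss * S.Q a * (S.σ ss)⁻¹

theorem Qm_inv (a : A) : (S.Qm a)⁻¹ = S.Qm (-a) := by
  simp only [Qm, _root_.mul_inv_rev, inv_inv, S.Q_inv, mul_assoc]

theorem Qm_mul (a b : A) : S.Qm a * S.Qm b = S.Qm (a + b) * S.σ (ll (-S.ω a b)) := by
  have h : S.σ (ll (-S.ω a b)) = S.σ ss * S.σ (uu (S.ω a b)) * (S.σ ss)⁻¹ := by
    rw [eq_mul_inv_iff_mul_eq, ← map_mul, ← map_mul, ss_uu]
  rw [Qm, Qm, h, show S.σ ss * S.Q a * (S.σ ss)⁻¹ * (S.σ ss * S.Q b * (S.σ ss)⁻¹) =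
    S.σ ss * (S.Q a * S.Q b) * (S.σ ss)⁻¹ by group, S.R3, Qm]
  group

theorem Qm_ll (k : F) (a : A) : Commute (S.σ (ll k)) (S.Qm a) := by
  have h : S.σ (ll k) = S.σ ss * S.σ (uu (-k)) * (S.σ ss)⁻¹ := by
    rw [eq_mul_inv_iff_mul_eq, ← map_mul, ← map_mul, ss_uu, neg_neg]
  rw [h, Qm]
  exact (Commute.conj_iff _).2 (S.R4u _ _)

theorem dd_Qm (c : Fˣ) (a : A) : S.σ (dd c) * S.Qm a = S.Qm (((c⁻¹ : Fˣ) : F) • a) * S.σ (dd c) := by
  have h : S.σ (dd c) * S.σ ss = S.σ ss * S.σ (dd c⁻¹) := by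
    rw [← map_mul, ← map_mul, ss_mul_dd, inv_inv]
  have h' : (S.σ ss)⁻¹ * S.σ (dd c) = S.σ (dd c⁻¹) * (S.σ ss)⁻¹ := by
    rw [inv_mul_eq_iff_eq_mul, ← mul_assoc, eq_mul_inv_iff_mul_eq, h]
  rw [Qm, ← mul_assoc, ← mul_assoc, h, mul_assoc (S.σ ss), S.R4d, Qm, mul_assoc _ (S.σ ss)⁻¹, h']
  group

theorem ss_Qm (a : A) : S.Qm a = (S.σ ss)⁻¹ * S.Q (-a) * S.σ ss := by
  have h := S.R4d (-1) a
  rw [← ss_sq, map_mul, Units.val_neg, Units.val_one, neg_smul, one_smul] at h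
  have h2 : S.σ ss * S.Q a = (S.σ ss)⁻¹ * S.Q (-a) * (S.σ ss * S.σ ss) := by
    rw [mul_assoc (S.σ ss)⁻¹, ← h]; group
  rw [Qm, h2]
  group

theorem Q_eq (a : A) : S.Q a = S.σ ss * S.Qm (-a) * (S.σ ss)⁻¹ := by
  rw [S.ss_Qm, neg_neg]
  group

theorem R5m (k : F) (a : A) :
    S.σ (uu k) * S.Qm a = S.Qm a * S.Q (k • a) * S.η (S.τ a (-k)) * S.σ (uu k) := by
  have h : S.σ (uu k) * S.σ ss = S.σ ss * S.σ (ll (-k)) := by
    rw [← map_mul, ← map_mul, ss_ll, neg_neg]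
  have h' : S.σ (ll (-k)) * (S.σ ss)⁻¹ = (S.σ ss)⁻¹ * S.σ (uu k) := by
    rw [eq_inv_mul_iff_mul_eq, ← mul_assoc, ← h, mul_inv_cancel_right]
  have hq : S.σ ss * (S.σ ss * S.Q ((-k) • a) * (S.σ ss)⁻¹) * (S.σ ss)⁻¹ = S.Q (k • a) := by
    rw [show k • a = -((-k) • a) by rw [neg_smul, neg_neg], S.Q_eq (-((-k) • a)), neg_neg, Qm]
  have hc := ((S.R1 ss (S.τ a (-k))).inv_left).eq
  calc S.σ (uu k) * S.Qm a = S.σ ss * (S.σ (ll (-k)) * S.Q a) * (S.σ ss)⁻¹ := by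
        rw [Qm, ← mul_assoc, ← mul_assoc, h]; group
    _ = S.σ ss * S.Q a * (S.σ ss * S.Q ((-k) • a) * (S.σ ss)⁻¹) * S.η (S.τ a (-k)) *
          (S.σ (ll (-k)) * (S.σ ss)⁻¹) := by rw [S.R5]; group
    _ = (S.σ ss * S.Q a * (S.σ ss)⁻¹) * (S.σ ss * (S.σ ss * S.Q ((-k) • a) * (S.σ ss)⁻¹) *
          (S.σ ss)⁻¹) * (S.σ ss * (S.η (S.τ a (-k)) * (S.σ ss)⁻¹)) * S.σ (uu k) := by
        rw [h']; group
    _ = _ := by rw [hq, ← hc, ← mul_assoc (S.σ ss), mul_inv_cancel, one_mul, Qm]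

theorem Qm_act (a u : A) (α β : F) :
    S.act (S.Qm a) (S.ι (u, α, β)) = S.ι (u + α • a, α, β + S.ω u a) := by
  rw [Qm, ← map_inv, S.act_mul, S.act_mul, S.σ_act, S.Q_act, S.σ_act]
  have h : (ss⁻¹ : S2 F).1 = !![0, 1; -1, 0] := by
    show (ss : S2 F).1.adjugate = _
    simp [ss_val, Matrix.adjugate_fin_two]
  simp [h, ss_val, sub_neg_eq_add, add_comm, neg_smul]

theorem ga_inv_act (h : Γ) (u v : A) (he : S.ga h u = v) : S.ga h⁻¹ v = u := by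
  rw [← he, ← Module.End.mul_apply, ← map_mul, inv_mul_cancel, map_one, Module.End.one_apply]

/-- The stabiliser of the new basis vector. -/
def P : Subgroup K where
  carrier := {g | ∃ a c h, g = S.Q a * S.σ (uu c) * S.η h}
  one_mem' := ⟨0, 0, 1, by rw [S.Q_zero, uu_zero, map_one, map_one, mul_one, mul_one]⟩
  mul_mem' := by
    rintro _ _ ⟨a, c, h, rfl⟩ ⟨a', c', h', rfl⟩
    refine ⟨a + S.ga h a', S.ω a (S.ga h a') + c + c', h * h', ?_⟩
    rw [← uu_mul, ← uu_mul, map_mul, map_mul, map_mul, ← mul_assoc (S.Q _), ← mul_assoc (S.Q _),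
      ← S.R3]
    calc S.Q a * S.σ (uu c) * S.η h * (S.Q a' * S.σ (uu c') * S.η h')
        = S.Q a * S.σ (uu c) * (S.η h * S.Q a') * S.σ (uu c') * S.η h' := by group
      _ = S.Q a * (S.σ (uu c) * S.Q (S.ga h a')) * (S.η h * S.σ (uu c')) * S.η h' := by
          rw [S.R2]; group
      _ = _ := by rw [(S.R4u c _).eq, (S.R1 (uu c') h).symm.eq]; group
  inv_mem' := by
    rintro _ ⟨a, c, h, rfl⟩
    refine ⟨S.ga h⁻¹ (-a), -c, h⁻¹, ?_⟩
    calc (S.Q a * S.σ (uu c) * S.η h)⁻¹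
        = S.η h⁻¹ * ((S.σ (uu c))⁻¹ * (S.Q a)⁻¹) := by rw [map_inv]; group
      _ = S.η h⁻¹ * (S.σ (uu (-c)) * S.Q (-a)) := by rw [← map_inv, uu_inv, S.Q_inv]
      _ = (S.η h⁻¹ * S.Q (-a)) * S.σ (uu (-c)) := by rw [(S.R4u _ _).eq, mul_assoc]
      _ = S.Q (S.ga h⁻¹ (-a)) * (S.η h⁻¹ * S.σ (uu (-c))) := by rw [S.R2, mul_assoc]
      _ = _ := by rw [(S.R1 _ h⁻¹).symm.eq, mul_assoc]

theorem Q_mem_P (a : A) : S.Q a ∈ S.P :=
  ⟨a, 0, 1, by rw [uu_zero, map_one, map_one, mul_one, mul_one]⟩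

theorem uu_mem_P (c : F) : S.σ (uu c) ∈ S.P :=
  ⟨0, c, 1, by rw [S.Q_zero, map_one, mul_one, one_mul]⟩

theorem η_mem_P (h : Γ) : S.η h ∈ S.P :=
  ⟨0, 0, h, by rw [S.Q_zero, uu_zero, map_one, one_mul, one_mul]⟩

/-- The cosets of `P`, labelled by vectors. -/
noncomputable def C (t : A × F × F) : Set K :=
  haveI := Classical.propDecidable
  if hα : t.2.1 ≠ 0 then
    (S.σ (ll (t.2.2 / t.2.1) * dd (Units.mk0 _ hα)) * S.Qm t.1) • (S.P : Set K)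
  else if hβ : t.2.2 ≠ 0 then (S.σ (ss * dd (Units.mk0 _ hβ)) * S.Qm t.1) • (S.P : Set K)
  else if h : ∃ a, S.ω t.1 a = -1 then
    (S.Q h.choose * (S.σ (ll (0 / 1) * dd (Units.mk0 (1 : F) one_ne_zero)) * S.Qm t.1)) • (S.P : Set K)
  else ∅

theorem smul_P {k : K} (h : k ∈ S.P) : k • (S.P : Set K) = S.P := by
  ext x
  rw [mem_leftCoset_iff]
  exact S.P.mul_mem_cancel_left (S.P.inv_mem h)

theorem smul_eq {x y : K} (h : x⁻¹ * y ∈ S.P) : x • (S.P : Set K) = y • (S.P : Set K) :=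
  (leftCoset_eq_iff S.P).2 h

theorem C_w (g : S2 F) (u : A) :
    S.C (u, g.1 0 0, g.1 1 0) = (S.σ g * S.Qm u) • (S.P : Set K) := by
  have key : ∀ g' : S2 F, g'.1 0 0 = g.1 0 0 → g'.1 1 0 = g.1 1 0 →
      (S.σ g' * S.Qm u) • (S.P : Set K) = (S.σ g * S.Qm u) • (S.P : Set K) := by
    intro g' h0 h1
    have hu : g'⁻¹ * g = uu ((g'⁻¹ * g).1 0 1) := by
      have hd : g.1 0 0 * g'.1 1 1 - g'.1 0 1 * g.1 1 0 = 1 := by
        rw [← h0, ← h1, ← Matrix.det_fin_two]; exact g'.2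
      refine eq_mul_uu _ ?_ ?_
      · show (g'.1.adjugate * g.1) 1 0 = 0
        simp [Matrix.adjugate_fin_two, Matrix.mul_apply, Fin.sum_univ_two, h0, h1]
        ring
      · show (g'.1.adjugate * g.1) 0 0 = 1
        simp [Matrix.adjugate_fin_two, Matrix.mul_apply, Fin.sum_univ_two]
        linear_combination hd
    generalize (g'⁻¹ * g).1 0 1 = k at hu
    rw [inv_mul_eq_iff_eq_mul] at hu
    rw [hu, map_mul]
    refine S.smul_eq ?_
    rw [show (S.σ g' * S.Qm u)⁻¹ * (S.σ g' * S.σ (uu k) * S.Qm u) =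
      (S.Qm u)⁻¹ * (S.σ (uu k) * S.Qm u) by group, S.R5m,
      show (S.Qm u)⁻¹ * (S.Qm u * S.Q (k • u) * S.η (S.τ u (-k)) * S.σ (uu k)) =
        S.Q (k • u) * S.η (S.τ u (-k)) * S.σ (uu k) by group]
    exact mul_mem (mul_mem (S.Q_mem_P _) (S.η_mem_P _)) (S.uu_mem_P _)
  have hd : g.1 0 0 * g.1 1 1 - g.1 0 1 * g.1 1 0 = 1 := by rw [← Matrix.det_fin_two]; exact g.2
  by_cases hα : g.1 0 0 = 0
  · have hβ : g.1 1 0 ≠ 0 := fun e => by
      rw [hα, e, zero_mul, mul_zero, sub_zero] at hd; exact zero_ne_one hd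
    rw [C, dif_neg (not_not.2 hα), dif_pos hβ]
    exact key _ (by simp [vMul, ss_val, dd_val, Matrix.mul_fin_two, hα])
      (by simp [vMul, ss_val, dd_val, Matrix.mul_fin_two])
  · rw [C, dif_pos hα]
    exact key _ (by simp [vMul, ll_val, dd_val, Matrix.mul_fin_two])
      (by simp [vMul, ll_val, dd_val, Matrix.mul_fin_two]; field_simp)

theorem exists_col {α β : F} (h : α ≠ 0 ∨ β ≠ 0) : ∃ g : S2 F, g.1 0 0 = α ∧ g.1 1 0 = β := by
  by_cases hα : α = 0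
  · have hβ : β ≠ 0 := h.resolve_left (not_not.2 hα)
    exact ⟨ss * dd (Units.mk0 _ hβ), by simp [vMul, ss_val, dd_val, Matrix.mul_fin_two, hα],
      by simp [vMul, ss_val, dd_val, Matrix.mul_fin_two]⟩
  · exact ⟨ll (β / α) * dd (Units.mk0 _ hα), by simp [vMul, ll_val, dd_val, Matrix.mul_fin_two],
      by simp [vMul, ll_val, dd_val, Matrix.mul_fin_two]; field_simp⟩

theorem C_base : S.C (0, 1, 0) = (S.P : Set K) := by
  have h := S.C_w 1 0
  rw [map_one, one_mul, show S.Qm 0 = 1 by rw [Qm, S.Q_zero, mul_one, mul_inv_cancel], one_smul] at h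
  simpa using h

/-- `k` moves the label `t` to `t'` compatibly. -/
def GT (k : K) (t t' : A × F × F) : Prop :=
  S.act k (S.ι t) = S.ι t' ∧ k • S.C t = S.C t'

theorem GT.trans {j k : K} {t t₁ t' : A × F × F} (h₁ : S.GT k t t₁) (h₂ : S.GT j t₁ t') :
    S.GT (j * k) t t' :=
  ⟨by rw [S.act_mul, h₁.1, h₂.1], by rw [mul_smul, h₁.2, h₂.2]⟩

theorem GT.symm {k : K} {t t' : A × F × F} (h : S.GT k t t') : S.GT k⁻¹ t' t :=
  ⟨by rw [← h.1, ← S.act_mul, inv_mul_cancel, S.act_one], by rw [← h.2, inv_smul_smul]⟩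

theorem gt_σ_w (g : S2 F) (u : A) {α β : F} (hw : α ≠ 0 ∨ β ≠ 0) :
    S.GT (S.σ g) (u, α, β) (u, g.1 0 0 * α + g.1 0 1 * β, g.1 1 0 * α + g.1 1 1 * β) := by
  refine ⟨S.σ_act g u α β, ?_⟩
  obtain ⟨x, hx0, hx1⟩ := exists_col hw
  have e0 : g.1 0 0 * α + g.1 0 1 * β = (g * x).1 0 0 := by
    rw [vMul, Matrix.mul_apply, Fin.sum_univ_two, hx0, hx1]
  have e1 : g.1 1 0 * α + g.1 1 1 * β = (g * x).1 1 0 := by
    rw [vMul, Matrix.mul_apply, Fin.sum_univ_two, hx0, hx1]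
  rw [e0, e1, S.C_w, ← hx0, ← hx1, S.C_w, ← mul_smul, map_mul, mul_assoc]

theorem gt_η_w (h : Γ) (u : A) {α β : F} (hw : α ≠ 0 ∨ β ≠ 0) :
    S.GT (S.η h) (u, α, β) (S.ga h u, α, β) := by
  refine ⟨S.η_act h u α β, ?_⟩
  obtain ⟨x, rfl, rfl⟩ := exists_col hw
  rw [S.C_w, S.C_w, ← mul_smul]
  refine S.smul_eq ?_
  have hc := (S.R1 x h).eq
  have hQ : S.η h * S.Qm u = S.Qm (S.ga h u) * S.η h := by
    rw [Qm, Qm, ← mul_assoc, ← mul_assoc, ← (S.R1 ss h).eq, mul_assoc (S.σ ss), S.R2,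
      ← mul_assoc, mul_assoc _ (S.η h), ((S.R1 ss h).inv_left).symm.eq]
    group
  rw [show S.η h * (S.σ x * S.Qm u) = S.σ x * (S.η h * S.Qm u) by
      rw [← mul_assoc, ← hc, mul_assoc], hQ,
    show (S.σ x * (S.Qm (S.ga h u) * S.η h))⁻¹ * (S.σ x * S.Qm (S.ga h u)) = (S.η h)⁻¹ by group]
  exact inv_mem (S.η_mem_P h)

theorem gt_Qm_α (a u : A) {α : F} (hα : α ≠ 0) (β : F) :
    S.GT (S.Qm a) (u, α, β) (u + α • a, α, β + S.ω u a) := by
  refine ⟨S.Qm_act a u α β, ?_⟩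
  have hd : S.Qm a * S.σ (dd (Units.mk0 α hα)) = S.σ (dd (Units.mk0 α hα)) * S.Qm (α • a) := by
    rw [S.dd_Qm, smul_smul, Units.val_inv_eq_inv_val, Units.val_mk0, inv_mul_cancel₀ hα, one_smul]
  let g := ll (β / α) * dd (Units.mk0 α hα) * ll (α * S.ω u a)
  have e0 : g.1 0 0 = α := by simp [g, vMul, ll_val, dd_val, Matrix.mul_fin_two]
  have e1 : g.1 1 0 = β + S.ω u a := by
    simp [g, vMul, ll_val, dd_val, Matrix.mul_fin_two]
    field_simp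
  have hC := S.C_w g (u + α • a)
  rw [e0, e1] at hC
  rw [hC, C, dif_pos hα, ← mul_smul]
  refine congrArg (· • (S.P : Set K)) ?_
  show S.Qm a * (S.σ (ll (β / α) * dd (Units.mk0 α hα)) * S.Qm u) = S.σ g * S.Qm (u + α • a)
  calc S.Qm a * (S.σ (ll (β / α) * dd (Units.mk0 α hα)) * S.Qm u)
      = S.σ (ll (β / α)) * (S.Qm a * S.σ (dd (Units.mk0 α hα))) * S.Qm u := by
        rw [map_mul, ← mul_assoc, ← mul_assoc, ← (S.Qm_ll _ a).eq]; group
    _ = S.σ (ll (β / α)) * S.σ (dd (Units.mk0 α hα)) * (S.Qm (α • a) * S.Qm u) := by rw [hd]; group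
    _ = S.σ (ll (β / α)) * S.σ (dd (Units.mk0 α hα)) *
        (S.σ (ll (α * S.ω u a)) * S.Qm (u + α • a)) := by
        rw [S.Qm_mul, ← (S.Qm_ll _ _).eq, add_comm, map_smul, LinearMap.smul_apply, smul_eq_mul,
          S.anti u a, mul_neg, neg_neg]
    _ = _ := by simp only [g, map_mul]; group

theorem gt_Q_β (a u : A) (α : F) {β : F} (hβ : β ≠ 0) :
    S.GT (S.Q a) (u, α, β) (u - β • a, α + S.ω u a, β) := by
  refine ⟨S.Q_act a u α β, ?_⟩
  rw [S.Q_eq]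
  have h1 : S.GT (S.σ ss) (u, β, -α) (u, α, β) := by
    simpa [ss_val] using S.gt_σ_w ss u (α := β) (β := -α) (Or.inl hβ)
  have h2 := S.gt_Qm_α (-a) u hβ (-α)
  have h3 : S.GT (S.σ ss) (u + β • (-a), β, -α + S.ω u (-a)) (u - β • a, α + S.ω u a, β) := by
    have := S.gt_σ_w ss (u + β • (-a)) (α := β) (β := -α + S.ω u (-a)) (Or.inl hβ)
    simpa [ss_val, sub_eq_add_neg, add_comm] using this
  rw [mul_assoc]
  exact (((GT.symm S h1).trans S h2).trans S h3).2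

theorem gt_uu_fix (k : F) (u : A) {α : F} (hα : α ≠ 0) :
    S.GT (S.σ (uu k)) (u, α, 0) (u, α, 0) := by
  simpa [uu_val] using S.gt_σ_w (uu k) u (α := α) (β := 0) (Or.inl hα)

theorem gt_Q_αα (a u : A) {α : F} (hα : α ≠ 0) (hα' : α + S.ω u a ≠ 0) :
    S.GT (S.Q a) (u, α, 0) (u, α + S.ω u a, 0) := by
  have he : S.Q a = (S.Qm a)⁻¹ * (S.σ (uu 1) * (S.Qm a * ((S.σ (uu 1))⁻¹ * (S.η (S.τ a (-1)))⁻¹))) := by
    have h := S.R5m 1 a
    rw [one_smul] at h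
    rw [← mul_assoc (S.σ (uu 1)), h]
    group
  rw [he]
  have hτ : S.ga (S.τ a (-1)) (u + S.ω u a • a) = u := by
    rw [S.τ_eq]
    simp [map_add, map_smul, S.alt]
  have g1 : S.GT (S.η (S.τ a (-1)))⁻¹ (u, α, 0) (u + S.ω u a • a, α, 0) := by
    have := S.gt_η_w (S.τ a (-1)) (u + S.ω u a • a) (α := α) (β := 0) (Or.inl hα)
    rw [hτ] at this
    exact GT.symm S this
  have g2 := GT.symm S (S.gt_uu_fix 1 (u + S.ω u a • a) hα)
  have g3 := S.gt_Qm_α a (u + S.ω u a • a) hα 0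
  have hω : S.ω (u + S.ω u a • a) a = S.ω u a := by simp [map_add, map_smul, S.alt]
  rw [zero_add, hω] at g3
  have g4 := S.gt_σ_w (uu 1) (u + S.ω u a • a + α • a) (α := α) (β := S.ω u a) (Or.inl hα)
  have e4 : ((uu (1 : F)).1 0 0 * α + (uu (1 : F)).1 0 1 * S.ω u a) = α + S.ω u a := by simp [uu_val]
  have e5 : ((uu (1 : F)).1 1 0 * α + (uu (1 : F)).1 1 1 * S.ω u a) = S.ω u a := by simp [uu_val]
  rw [e4, e5] at g4
  have g5 := S.gt_Qm_α a u hα' 0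
  rw [zero_add] at g5
  have hv : u + S.ω u a • a + α • a = u + (α + S.ω u a) • a := by rw [add_smul]; abel
  rw [← hv] at g5
  exact ((((g1.trans S g2).trans S g3).trans S g4).trans S (GT.symm S g5))

theorem C_zero : S.C (0, 0, 0) = ∅ := by
  rw [C, dif_neg (by simp), dif_neg (by simp), dif_neg]
  rintro ⟨a, ha⟩
  simp at ha

theorem L1 {u a : A} {l : F} (hl : l ≠ 0) (ha : S.ω u a = -l) :
    S.Q a • S.C (u, l, 0) = S.C (u, 0, 0) := by
  have hex : ∃ a, S.ω u a = -1 := ⟨l⁻¹ • a, by rw [map_smul, ha, smul_eq_mul]; field_simp⟩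
  have hR : S.C (u, 0, 0) = S.Q hex.choose • S.C (u, 1, 0) := by
    rw [C, dif_neg (by simp), dif_neg (by simp), dif_pos hex, C, dif_pos one_ne_zero, ← mul_smul]
  rw [hR]
  have ha0 := hex.choose_spec
  generalize hex.choose = a0 at ha0 ⊢
  have hl' : (1 : F) + S.ω u (a0 - a) = l := by rw [map_sub, ha, ha0]; ring
  have hq := (S.gt_Q_αα (a0 - a) u one_ne_zero (by rw [hl']; exact hl)).2
  rw [hl'] at hq
  have e := S.R3 a (a0 - a)
  rw [add_sub_cancel] at e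
  rw [← hq, ← mul_smul, e, mul_smul, (S.gt_uu_fix _ u one_ne_zero).2]

theorem gt_Q_α (a u : A) {α : F} (hα : α ≠ 0) :
    S.GT (S.Q a) (u, α, 0) (u, α + S.ω u a, 0) := by
  by_cases hα' : α + S.ω u a = 0
  · refine ⟨by simpa using S.Q_act a u α 0, ?_⟩
    rw [hα', S.L1 hα (by linear_combination hα')]
  · exact S.gt_Q_αα a u hα hα'

theorem gt_Q_w (a u : A) {α β : F} (hw : α ≠ 0 ∨ β ≠ 0) :
    S.GT (S.Q a) (u, α, β) (u - β • a, α + S.ω u a, β) := by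
  by_cases hβ : β = 0
  · subst hβ
    simpa using S.gt_Q_α a u (hw.resolve_right (by simp))
  · exact S.gt_Q_β a u α hβ

theorem exists_neg_one {u : A} (hu : u ≠ 0) : ∃ a, S.ω u a = -1 := by
  obtain ⟨a, ha⟩ := S.nondeg u hu
  exact ⟨-a, by rw [map_neg, ha]⟩

theorem gt_η_u (h : Γ) (u : A) : S.GT (S.η h) (u, 0, 0) (S.ga h u, 0, 0) := by
  refine ⟨S.η_act h u 0 0, ?_⟩
  by_cases hu : u = 0
  · rw [hu, map_zero, S.C_zero, Set.smul_set_empty]
  obtain ⟨a, ha⟩ := S.exists_neg_one hu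
  rw [← S.L1 one_ne_zero ha, ← mul_smul, S.R2, mul_smul,
    (S.gt_η_w h u (α := 1) (β := 0) (Or.inl one_ne_zero)).2,
    S.L1 one_ne_zero (by rw [S.ga_ω, ha])]

theorem gt_σ_u (g : S2 F) (u : A) : S.GT (S.σ g) (u, 0, 0) (u, 0, 0) := by
  refine ⟨by simpa using S.σ_act g u 0 0, ?_⟩
  by_cases hu : u = 0
  · rw [hu, S.C_zero, Set.smul_set_empty]
  obtain ⟨a, ha⟩ := S.exists_neg_one hu
  induction g using sl2_induction with
  | hu k =>
    rw [← S.L1 one_ne_zero ha, ← mul_smul, (S.R4u k a).eq, mul_smul,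
      (S.gt_uu_fix k u one_ne_zero).2]
  | hl c =>
    rw [← S.L1 one_ne_zero ha, ← mul_smul, S.R5, mul_smul, mul_smul, mul_smul]
    have g1 : S.GT (S.σ (ll c)) (u, 1, 0) (u, 1, c) := by
      simpa [ll_val] using S.gt_σ_w (ll c) u (α := 1) (β := 0) (Or.inl one_ne_zero)
    have g2 := S.gt_η_w (S.τ a c) u (α := 1) (β := c) (Or.inl one_ne_zero)
    rw [S.τ_eq, ha, mul_neg_one] at g2
    have g3 := S.gt_Qm_α (c • a) (u + (-c) • a) one_ne_zero c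
    have hv : u + (-c) • a + (1 : F) • (c • a) = u := by rw [one_smul, neg_smul, neg_add_cancel_right]
    have hb : c + S.ω (u + (-c) • a) (c • a) = 0 := by simp [map_add, map_smul, S.alt, ha]
    rw [hv, hb] at g3
    rw [g1.2, g2.2]
    exact congrArg _ g3.2
  | hm g h hg hh => rw [map_mul, mul_smul, hh, hg]

theorem gt_Q_u (a u : A) : S.GT (S.Q a) (u, 0, 0) (u, S.ω u a, 0) := by
  by_cases hu : u = 0
  · refine ⟨by simpa using S.Q_act a u 0 0, ?_⟩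
    subst hu
    simp [S.C_zero]
  have hne : ∀ b, S.ω u b ≠ 0 → S.GT (S.Q b) (u, 0, 0) (u, S.ω u b, 0) := by
    intro b hb
    have h := S.gt_Q_α (-b) u hb
    rw [map_neg, add_neg_cancel, ← S.Q_inv] at h
    simpa using GT.symm S h
  by_cases ha : S.ω u a = 0
  · obtain ⟨b, hb⟩ := S.nondeg u hu
    have hab : S.ω u (a - b) = -1 := by rw [map_sub, ha, hb, zero_sub]
    have e : S.Q a = S.Q b * (S.Q (a - b) * (S.σ (uu (S.ω b (a - b))))⁻¹) := by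
      rw [← mul_assoc, S.R3, add_sub_cancel, mul_inv_cancel_right]
    rw [e, ha]
    have g1 := GT.symm S (S.gt_σ_u (uu (S.ω b (a - b))) u)
    have g2 := hne (a - b) (by rw [hab]; exact neg_ne_zero.2 one_ne_zero)
    rw [hab] at g2
    have g3 := S.gt_Q_α b u (neg_ne_zero.2 (one_ne_zero (α := F)))
    rw [hb, neg_add_cancel] at g3
    exact (g1.trans S g2).trans S g3
  · exact hne a ha

/-- The group generated by the data. -/
def K₀ : Subgroup K := Subgroup.closure (Set.range S.σ ∪ Set.range S.η ∪ Set.range S.Q)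

theorem σ_mem (g : S2 F) : S.σ g ∈ S.K₀ :=
  Subgroup.subset_closure (Or.inl (Or.inl ⟨g, rfl⟩))

theorem η_mem (h : Γ) : S.η h ∈ S.K₀ :=
  Subgroup.subset_closure (Or.inl (Or.inr ⟨h, rfl⟩))

theorem Q_mem (a : A) : S.Q a ∈ S.K₀ :=
  Subgroup.subset_closure (Or.inr ⟨a, rfl⟩)

theorem Qm_mem (a : A) : S.Qm a ∈ S.K₀ :=
  mul_mem (mul_mem (S.σ_mem _) (S.Q_mem a)) (inv_mem (S.σ_mem _))

theorem exists_gt {k : K} (hk : k ∈ S.K₀) : ∀ t, ∃ t', S.GT k t t' := by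
  have gen : ∀ k ∈ Set.range S.σ ∪ Set.range S.η ∪ Set.range S.Q, ∀ t, ∃ t', S.GT k t t' := by
    rintro _ ((⟨g, rfl⟩ | ⟨h, rfl⟩) | ⟨a, rfl⟩) ⟨u, α, β⟩ <;>
      by_cases hw : α ≠ 0 ∨ β ≠ 0
    · exact ⟨_, S.gt_σ_w g u hw⟩
    · push Not at hw; obtain ⟨rfl, rfl⟩ := hw; exact ⟨_, S.gt_σ_u g u⟩
    · exact ⟨_, S.gt_η_w h u hw⟩
    · push Not at hw; obtain ⟨rfl, rfl⟩ := hw; exact ⟨_, S.gt_η_u h u⟩
    · exact ⟨_, S.gt_Q_w a u hw⟩
    · push Not at hw; obtain ⟨rfl, rfl⟩ := hw; exact ⟨_, S.gt_Q_u a u⟩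
  induction hk using Subgroup.closure_induction'' with
  | one => exact fun t => ⟨t, S.act_one _, one_smul _ _⟩
  | mem x hx => exact gen x hx
  | inv_mem x hx =>
    refine gen x⁻¹ ?_
    rcases hx with (⟨g, rfl⟩ | ⟨h, rfl⟩) | ⟨a, rfl⟩
    · exact Or.inl (Or.inl ⟨g⁻¹, map_inv _ _⟩)
    · exact Or.inl (Or.inr ⟨h⁻¹, map_inv _ _⟩)
    · exact Or.inr ⟨-a, (S.Q_inv a).symm⟩
  | mul x y _ _ hx hy =>
    intro t
    obtain ⟨t₁, h₁⟩ := hy t
    obtain ⟨t₂, h₂⟩ := hx t₁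
    exact ⟨t₂, h₁.trans S h₂⟩

/-- The stabiliser of the new basis vector in the generated group. -/
theorem mem_P_of_fix {k : K} (hk : k ∈ S.K₀) (hfix : S.act k (S.ι (0, 1, 0)) = S.ι (0, 1, 0)) :
    k ∈ S.P := by
  obtain ⟨t', h1, h2⟩ := S.exists_gt hk (0, 1, 0)
  rw [S.ι_inj (h1.symm.trans hfix), S.C_base] at h2
  have h : k * 1 ∈ k • (S.P : Set K) := Set.smul_mem_smul_set (one_mem S.P)
  rw [h2, mul_one] at h
  exact h

/-- The generated group acts faithfully. -/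
theorem faithful {k : K} (hk : k ∈ S.K₀) (hfix : ∀ t, S.act k (S.ι t) = S.ι t) : k = 1 := by
  obtain ⟨a, c, h, rfl⟩ := S.mem_P_of_fix hk (hfix _)
  have hf := hfix (0, 0, 1)
  rw [S.act_mul, S.act_mul, S.η_act, S.σ_act, S.Q_act] at hf
  have hf' := S.ι_inj hf
  simp [uu_val] at hf'
  obtain ⟨rfl, rfl⟩ : a = 0 ∧ c = 0 := hf'
  rw [S.Q_zero, uu_zero, map_one, one_mul, one_mul] at hfix ⊢
  rw [S.ga_inj h fun u => ?_, map_one]
  have := S.ι_inj ((S.η_act h u 0 0).symm.trans (hfix (u, 0, 0)))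
  simpa using this

/-- Every nonzero vector is reached from the new basis vector. -/
theorem reach {t : A × F × F} (ht : t ≠ 0) :
    ∃ k ∈ S.K₀, S.act k (S.ι (0, 1, 0)) = S.ι t := by
  obtain ⟨u, α, β⟩ := t
  have hw : ∀ u α β, α ≠ 0 ∨ β ≠ 0 → ∃ k ∈ S.K₀, S.act k (S.ι (0, 1, 0)) = S.ι (u, α, β) := by
    intro u α β h
    obtain ⟨g, rfl, rfl⟩ := exists_col h
    refine ⟨S.σ g * S.Qm u, mul_mem (S.σ_mem g) (S.Qm_mem u), ?_⟩
    rw [S.act_mul, S.Qm_act, S.σ_act]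
    simp
  by_cases h : α ≠ 0 ∨ β ≠ 0
  · exact hw u α β h
  · push Not at h
    obtain ⟨rfl, rfl⟩ := h
    have hu : u ≠ 0 := fun e => ht (by rw [e]; rfl)
    obtain ⟨a, ha⟩ := S.exists_neg_one hu
    obtain ⟨k, hk, e⟩ := hw u 1 0 (Or.inl one_ne_zero)
    refine ⟨S.Q a * k, mul_mem (S.Q_mem a) hk, ?_⟩
    rw [S.act_mul, e, S.Q_act, ha]
    simp

end Stage

end Cfsg.Agent.SpAmalgam
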