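import Mathlib
import Cfsg.Agent.Lib.SpAmalgam.Stage

/-!
The symplectic group on a hyperbolic basis: transvections, Siegel elements, supports.
-/

set_option autoImplicit false
set_option linter.unusedSimpArgs false

namespace Cfsg.Agent.SpAmalgam

open Matrix

variable (F : Type*) [Field F] (n : ℕ)

abbrev Vec : Type _ := Fin n ⊕ Fin n → F

abbrev Gsp : Type _ := ↥(Matrix.symplecticGroup (Fin n) F)

/-- The alternating form. -/
def bil : Vec F n →ₗ[F] Vec F n →ₗ[F] F :=
  LinearMap.mk₂ F (fun v w => ∑ k, (v (Sum.inl k) * w (Sum.inr k) - v (Sum.inr k) * w (Sum.inl k)))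
    (fun a b c => by
      rw [← Finset.sum_add_distrib]
      exact Finset.sum_congr rfl fun k _ => by simp only [Pi.add_apply]; ring)
    (fun r a c => by
      rw [smul_eq_mul, Finset.mul_sum]
      exact Finset.sum_congr rfl fun k _ => by simp only [Pi.smul_apply, smul_eq_mul]; ring)
    (fun a b c => by
      rw [← Finset.sum_add_distrib]
      exact Finset.sum_congr rfl fun k _ => by simp only [Pi.add_apply]; ring)
    (fun r a c => by
      rw [smul_eq_mul, Finset.mul_sum]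
      exact Finset.sum_congr rfl fun k _ => by simp only [Pi.smul_apply, smul_eq_mul]; ring)

variable {F n}

theorem bil_apply (v w : Vec F n) :
    bil F n v w = ∑ k, (v (Sum.inl k) * w (Sum.inr k) - v (Sum.inr k) * w (Sum.inl k)) := rfl

theorem bil_self (v : Vec F n) : bil F n v v = 0 := by
  rw [bil_apply]; exact Finset.sum_eq_zero fun k _ => by ring

theorem bil_anti (v w : Vec F n) : bil F n w v = -bil F n v w := by
  rw [bil_apply, bil_apply, ← Finset.sum_neg_distrib]
  exact Finset.sum_congr rfl fun k _ => by ring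

theorem bil_eq_dot (v w : Vec F n) : bil F n v w = -(v ⬝ᵥ (J (Fin n) F *ᵥ w)) := by
  simp [bil_apply, J, dotProduct, Matrix.mulVec, Fintype.sum_sum_type, Matrix.one_apply,
    Finset.sum_sub_distrib]
  ring

/-- The `e`-vectors. -/
abbrev ev (k : Fin n) : Vec F n := Pi.single (Sum.inl k) 1

/-- The `f`-vectors. -/
abbrev fv (k : Fin n) : Vec F n := Pi.single (Sum.inr k) 1

theorem bil_fv (v : Vec F n) (k : Fin n) : bil F n v (fv k) = v (Sum.inl k) := by
  simp [bil_apply, fv, Pi.single_apply]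

theorem bil_ev (v : Vec F n) (k : Fin n) : bil F n v (ev k) = -v (Sum.inr k) := by
  simp [bil_apply, ev, Pi.single_apply]

theorem fv_bil (v : Vec F n) (k : Fin n) : bil F n (fv k) v = -v (Sum.inl k) := by
  rw [bil_anti, bil_fv]

theorem ev_bil (v : Vec F n) (k : Fin n) : bil F n (ev k) v = v (Sum.inr k) := by
  rw [bil_anti, bil_ev, neg_neg]

theorem bil_ef (k : Fin n) : bil F n (ev k) (fv k) = 1 := by simp [bil_fv, ev]

/-- The action on column vectors. -/
def mv (g : Gsp F n) (v : Vec F n) : Vec F n := (g : Matrix (Fin n ⊕ Fin n) (Fin n ⊕ Fin n) F) *ᵥ v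

theorem mv_one (v : Vec F n) : mv 1 v = v := Matrix.one_mulVec v

theorem mv_mul (g h : Gsp F n) (v : Vec F n) : mv (g * h) v = mv g (mv h v) :=
  (Matrix.mulVec_mulVec _ _ _).symm

theorem mv_add (g : Gsp F n) (v w : Vec F n) : mv g (v + w) = mv g v + mv g w :=
  Matrix.mulVec_add _ _ _

theorem mv_smul (g : Gsp F n) (c : F) (v : Vec F n) : mv g (c • v) = c • mv g v :=
  Matrix.mulVec_smul _ _ _

theorem mv_zero (g : Gsp F n) : mv g (0 : Vec F n) = 0 := Matrix.mulVec_zero _

theorem mv_inv_of (g : Gsp F n) {v w : Vec F n} (h : mv g v = w) : mv g⁻¹ w = v := by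
  rw [← h, ← mv_mul, inv_mul_cancel, mv_one]

theorem ext_basis {g h : Gsp F n} (he : ∀ k, mv g (ev k) = mv h (ev k))
    (hf : ∀ k, mv g (fv k) = mv h (fv k)) : g = h := by
  apply Subtype.ext
  refine Matrix.ext_of_mulVec_single fun i => ?_
  rcases i with k | k
  · exact he k
  · exact hf k

theorem ext_mv {g h : Gsp F n} (he : ∀ v, mv g v = mv h v) : g = h :=
  ext_basis (fun _ => he _) fun _ => he _

theorem bil_mv (g : Gsp F n) (v w : Vec F n) : bil F n (mv g v) (mv g w) = bil F n v w := by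
  rw [bil_eq_dot, bil_eq_dot]
  congr 1
  have h := SymplecticGroup.mem_iff'.1 g.2
  conv_rhs => rw [← h]
  rw [mv, mv, ← Matrix.mulVec_mulVec, ← Matrix.mulVec_mulVec, Matrix.dotProduct_mulVec v,
    Matrix.vecMul_transpose]

/-- An isometry as a group element. -/
noncomputable def mkG (f : Vec F n →ₗ[F] Vec F n) (h : ∀ v w, bil F n (f v) (f w) = bil F n v w) :
    Gsp F n :=
  ⟨LinearMap.toMatrix' f, SymplecticGroup.mem_iff'.2 (by
    ext a b
    have := h (Pi.single a 1) (Pi.single b 1)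
    rw [bil_eq_dot, bil_eq_dot, neg_inj, ← LinearMap.toMatrix'_mulVec f,
      ← LinearMap.toMatrix'_mulVec f (Pi.single b 1)] at this
    have key : ∀ X : Matrix (Fin n ⊕ Fin n) (Fin n ⊕ Fin n) F,
        Pi.single a 1 ⬝ᵥ (X *ᵥ Pi.single b 1) = X a b := fun X => by simp
    rw [← key ((LinearMap.toMatrix' f)ᵀ * J (Fin n) F * LinearMap.toMatrix' f), ← key (J (Fin n) F),
      ← this, ← Matrix.mulVec_mulVec, ← Matrix.mulVec_mulVec, Matrix.dotProduct_mulVec (Pi.single a 1),
      Matrix.vecMul_transpose])⟩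

theorem mv_mkG (f : Vec F n →ₗ[F] Vec F n) (h : ∀ v w, bil F n (f v) (f w) = bil F n v w)
    (v : Vec F n) : mv (mkG f h) v = f v :=
  LinearMap.toMatrix'_mulVec f v

/-- The Siegel element of an orthogonal pair. -/
noncomputable def TT (a b : Vec F n) : Gsp F n :=
  haveI := Classical.propDecidable
  if h : bil F n a b = 0 then
    mkG (LinearMap.id + ((bil F n).flip a).smulRight b + ((bil F n).flip b).smulRight a) fun v w => by
      simp only [LinearMap.add_apply, LinearMap.id_apply, LinearMap.smulRight_apply,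
        LinearMap.flip_apply, map_add, map_smul, LinearMap.smul_apply, smul_eq_mul, bil_self,
        h, bil_anti a b, bil_anti w a, bil_anti w b]
      ring
  else 1

theorem mv_TT {a b : Vec F n} (h : bil F n a b = 0) (v : Vec F n) :
    mv (TT a b) v = v + bil F n v a • b + bil F n v b • a := by
  rw [TT, dif_pos h, mv_mkG]; rfl

/-- A symplectic transvection. -/
noncomputable def TV (a : Vec F n) (c : F) : Gsp F n :=
  mkG (LinearMap.id + (c • (bil F n).flip a).smulRight a) fun v w => by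
    simp only [LinearMap.add_apply, LinearMap.id_apply, LinearMap.smulRight_apply, LinearMap.smul_apply,
      LinearMap.flip_apply, map_add, map_smul, smul_eq_mul, bil_self, bil_anti w a]
    ring

theorem mv_TV (a : Vec F n) (c : F) (v : Vec F n) : mv (TV a c) v = v + (c * bil F n v a) • a := by
  rw [TV, mv_mkG]; rfl

theorem TV_zero (c : F) : TV (0 : Vec F n) c = 1 :=
  ext_mv fun v => by rw [mv_TV, mv_one, smul_zero, add_zero]

theorem TT_zero (b : Vec F n) : TT 0 b = 1 :=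
  ext_mv fun v => by
    rw [mv_TT (by rw [map_zero, LinearMap.zero_apply]), mv_one, map_zero, zero_smul, smul_zero,
      add_zero, add_zero]

theorem conj_TT (g : Gsp F n) {a b : Vec F n} (h : bil F n a b = 0) :
    g * TT a b = TT (mv g a) (mv g b) * g :=
  ext_mv fun v => by
    rw [mv_mul, mv_mul, mv_TT h, mv_TT (by rw [bil_mv, h]), mv_add, mv_add, mv_smul, mv_smul,
      bil_mv, bil_mv]

theorem conj_TV (g : Gsp F n) (a : Vec F n) (c : F) : g * TV a c = TV (mv g a) c * g :=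
  ext_mv fun v => by rw [mv_mul, mv_mul, mv_TV, mv_TV, mv_add, mv_smul, bil_mv]

theorem TT_smul {a b : Vec F n} (h : bil F n a b = 0) (c : F) : TT (c • a) b = TT a (c • b) :=
  ext_mv fun v => by
    rw [mv_TT (by rw [map_smul, LinearMap.smul_apply, h, smul_zero]),
      mv_TT (by rw [map_smul, h, smul_zero]), map_smul, map_smul, smul_eq_mul, smul_eq_mul,
      smul_smul, smul_smul, mul_comm c, mul_comm c]

/-- Vectors supported on a set of indices. -/
def Asub (P : Fin n → Prop) : Submodule F (Vec F n) where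
  carrier := {v | ∀ k, ¬ P k → v (Sum.inl k) = 0 ∧ v (Sum.inr k) = 0}
  add_mem' := fun {a b} ha hb k hk => by simp [ha k hk, hb k hk]
  zero_mem' := fun k _ => by simp
  smul_mem' := fun c a ha k hk => by simp [ha k hk]

theorem mem_Asub {P : Fin n → Prop} {v : Vec F n} :
    v ∈ Asub P ↔ ∀ k, ¬ P k → v (Sum.inl k) = 0 ∧ v (Sum.inr k) = 0 := Iff.rfl

theorem ev_mem {P : Fin n → Prop} {k : Fin n} (hk : P k) : (ev k : Vec F n) ∈ Asub P := by
  intro j hj
  have : j ≠ k := fun e => hj (e ▸ hk)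
  simp [ev, this]

theorem fv_mem {P : Fin n → Prop} {k : Fin n} (hk : P k) : (fv k : Vec F n) ∈ Asub P := by
  intro j hj
  have : j ≠ k := fun e => hj (e ▸ hk)
  simp [fv, this]

theorem Asub_mono {P Q : Fin n → Prop} (h : ∀ k, P k → Q k) : Asub (F := F) P ≤ Asub Q :=
  fun _ hv k hk => hv k fun hp => hk (h k hp)

/-- The pointwise fixer of the basis vectors outside a set of indices. -/
def Fx (P : Fin n → Prop) : Subgroup (Gsp F n) where
  carrier := {g | ∀ k, ¬ P k → mv g (ev k) = ev k ∧ mv g (fv k) = fv k}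
  one_mem' := fun k _ => ⟨mv_one _, mv_one _⟩
  mul_mem' := fun {a b} ha hb k hk => by
    rw [mv_mul, mv_mul, (hb k hk).1, (hb k hk).2]; exact ha k hk
  inv_mem' := fun {a} ha k hk => ⟨mv_inv_of a (ha k hk).1, mv_inv_of a (ha k hk).2⟩

theorem mem_Fx {P : Fin n → Prop} {g : Gsp F n} :
    g ∈ Fx P ↔ ∀ k, ¬ P k → mv g (ev k) = ev k ∧ mv g (fv k) = fv k := Iff.rfl

theorem Fx_mono {P Q : Fin n → Prop} (h : ∀ k, P k → Q k) : Fx (F := F) P ≤ Fx Q :=
  fun _ hv k hk => hv k fun hp => hk (h k hp)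

theorem Fx_fix {P : Fin n → Prop} {g : Gsp F n} (hg : g ∈ Fx P) {v : Vec F n}
    (hv : v ∈ Asub fun k => ¬ P k) : mv g v = v := by
  conv_lhs => rw [← Finset.univ_sum_single v]
  conv_rhs => rw [← Finset.univ_sum_single v]
  rw [mv, Matrix.mulVec_sum]
  refine Finset.sum_congr rfl fun i _ => ?_
  rw [show Pi.single i (v i) = v i • (Pi.single i 1 : Vec F n) by
    rw [← Pi.single_smul, smul_eq_mul, mul_one], Matrix.mulVec_smul]
  rcases i with k | k
  · by_cases hk : P k
    · rw [(hv k (not_not.2 hk)).1, zero_smul, zero_smul]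
    · exact congrArg _ (hg k hk).1
  · by_cases hk : P k
    · rw [(hv k (not_not.2 hk)).2, zero_smul, zero_smul]
    · exact congrArg _ (hg k hk).2

theorem Fx_coord {P : Fin n → Prop} {g : Gsp F n} (hg : g ∈ Fx P) {k : Fin n} (hk : ¬ P k)
    (v : Vec F n) : mv g v (Sum.inl k) = v (Sum.inl k) ∧ mv g v (Sum.inr k) = v (Sum.inr k) := by
  constructor
  · rw [← bil_fv (mv g v), ← (hg k hk).2, bil_mv, bil_fv]
  · rw [← ev_bil (mv g v), ← (hg k hk).1, bil_mv, ev_bil]

theorem Fx_map {P : Fin n → Prop} {g : Gsp F n} (hg : g ∈ Fx P) {v : Vec F n} (hv : v ∈ Asub P) :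
    mv g v ∈ Asub P := fun k hk => by
  rw [(Fx_coord hg hk v).1, (Fx_coord hg hk v).2]; exact hv k hk

theorem Fx_commute {P Q : Fin n → Prop} (hPQ : ∀ k, P k → Q k → False) {g h : Gsp F n}
    (hg : g ∈ Fx P) (hh : h ∈ Fx Q) : Commute g h := by
  refine ext_basis (fun k => ?_) fun k => ?_
  all_goals rw [mv_mul, mv_mul]; by_cases hk : P k
  · rw [(hh k (hPQ k hk)).1, Fx_fix hh (Asub_mono (fun j hj => hPQ j hj) (Fx_map hg (ev_mem (P := P) hk)))]
  · rw [(hg k hk).1]
    by_cases hq : Q k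
    · rw [Fx_fix hg (Fx_map hh (ev_mem (P := Q) hq) |> Asub_mono fun j hj hp => hPQ j hp hj)]
    · rw [(hh k hq).1, (hg k hk).1]
  · rw [(hh k (hPQ k hk)).2, Fx_fix hh (Asub_mono (fun j hj => hPQ j hj) (Fx_map hg (fv_mem (P := P) hk)))]
  · rw [(hg k hk).2]
    by_cases hq : Q k
    · rw [Fx_fix hg (Fx_map hh (fv_mem (P := Q) hq) |> Asub_mono fun j hj hp => hPQ j hp hj)]
    · rw [(hh k hq).2, (hg k hk).2]

theorem bil_out {P : Fin n → Prop} {v : Vec F n} (hv : v ∈ Asub P) {k : Fin n} (hk : ¬ P k) :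
    bil F n (ev k) v = 0 ∧ bil F n (fv k) v = 0 := by
  rw [ev_bil, fv_bil, (hv k hk).1, (hv k hk).2, neg_zero]; exact ⟨rfl, rfl⟩

theorem TV_mem {P : Fin n → Prop} {a : Vec F n} (ha : a ∈ Asub P) (c : F) : TV a c ∈ Fx P :=
  fun k hk => by simp [mv_TV, bil_out ha hk]

theorem TT_mem {P : Fin n → Prop} {a b : Vec F n} (h : bil F n a b = 0) (ha : a ∈ Asub P)
    (hb : b ∈ Asub P) : TT a b ∈ Fx P :=
  fun k hk => by simp [mv_TT h, bil_out ha hk, bil_out hb hk]

theorem exists_dual {P : Fin n → Prop} {a : Vec F n} (ha : a ∈ Asub P) (h0 : a ≠ 0) :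
    ∃ b ∈ Asub P, bil F n a b = 1 := by
  obtain ⟨i, hi⟩ := Function.ne_iff.1 h0
  simp only [Pi.zero_apply] at hi
  rcases i with k | k
  · have hk : P k := by by_contra hk; exact hi (ha k hk).1
    exact ⟨(a (Sum.inl k))⁻¹ • fv k, Submodule.smul_mem _ _ (fv_mem hk),
      by rw [map_smul, bil_fv, smul_eq_mul, inv_mul_cancel₀ hi]⟩
  · have hk : P k := by by_contra hk; exact hi (ha k hk).2
    exact ⟨-(a (Sum.inr k))⁻¹ • ev k, Submodule.smul_mem _ _ (ev_mem hk),
      by rw [map_smul, bil_ev, smul_eq_mul, neg_mul_neg, inv_mul_cancel₀ hi]⟩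

theorem exists_trans {P : Fin n → Prop} {e a : Vec F n} (he : e ∈ Asub P) (ha : a ∈ Asub P)
    (he0 : e ≠ 0) (ha0 : a ≠ 0) : ∃ g ∈ Fx P, mv g e = a := by
  have one : ∀ x y : Vec F n, x ∈ Asub P → y ∈ Asub P → bil F n x y ≠ 0 →
      ∃ g ∈ Fx P, mv g x = y := by
    intro x y hx hy hxy
    refine ⟨TV (y - x) (bil F n x y)⁻¹, TV_mem (sub_mem hy hx) _, ?_⟩
    rw [mv_TV, map_sub, bil_self, sub_zero, inv_mul_cancel₀ hxy, one_smul, add_sub_cancel]
  by_cases h : bil F n e a = 0
  · obtain ⟨p, hp, hp1⟩ := exists_dual he he0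
    obtain ⟨q, hq, hq1⟩ := exists_dual ha ha0
    obtain ⟨b, hb, hb1, hb2⟩ : ∃ b ∈ Asub P, bil F n e b ≠ 0 ∧ bil F n a b ≠ 0 := by
      by_cases hap : bil F n a p = 0
      · by_cases heq : bil F n e q = 0
        · exact ⟨p + q, add_mem hp hq, by rw [map_add, hp1, heq, add_zero]; exact one_ne_zero,
            by rw [map_add, hap, hq1, zero_add]; exact one_ne_zero⟩
        · exact ⟨q, hq, heq, by rw [hq1]; exact one_ne_zero⟩
      · exact ⟨p, hp, by rw [hp1]; exact one_ne_zero, hap⟩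
    obtain ⟨g, hg, hge⟩ := one e b he hb hb1
    obtain ⟨k, hk, hkb⟩ := one b a hb ha (by rw [bil_anti]; exact neg_ne_zero.2 hb2)
    exact ⟨k * g, mul_mem hk hg, by rw [mv_mul, hge, hkb]⟩
  · exact one e a he ha h

/-- The fixer of all `e`-vectors and of the `f`-vectors outside a set of indices. -/
def MX (P : Fin n → Prop) : Subgroup (Gsp F n) where
  carrier := {g | (∀ k, mv g (ev k) = ev k) ∧ ∀ k, ¬ P k → mv g (fv k) = fv k}
  one_mem' := ⟨fun k => mv_one _, fun k _ => mv_one _⟩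
  mul_mem' := fun {a b} ha hb =>
    ⟨fun k => by rw [mv_mul, hb.1 k, ha.1 k], fun k hk => by rw [mv_mul, hb.2 k hk, ha.2 k hk]⟩
  inv_mem' := fun {a} ha => ⟨fun k => mv_inv_of a (ha.1 k), fun k hk => mv_inv_of a (ha.2 k hk)⟩

theorem MX_le_Fx (P : Fin n → Prop) : MX (F := F) P ≤ Fx P :=
  fun _ hg k hk => ⟨hg.1 k, hg.2 k hk⟩

theorem MX_comm {P Q : Fin n → Prop} {g h : Gsp F n} (hg : g ∈ MX P) (hh : h ∈ MX Q) :
    Commute g h := by
  have key : ∀ {R : Fin n → Prop} {x : Gsp F n}, x ∈ MX R → ∀ d : Vec F n,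
      (∀ k, d (Sum.inr k) = 0) → mv x d = d := by
    intro R x hx d hd
    conv_lhs => rw [← Finset.univ_sum_single d]
    conv_rhs => rw [← Finset.univ_sum_single d]
    rw [mv, Matrix.mulVec_sum]
    refine Finset.sum_congr rfl fun i _ => ?_
    rw [show Pi.single i (d i) = d i • (Pi.single i 1 : Vec F n) by
      rw [← Pi.single_smul, smul_eq_mul, mul_one], Matrix.mulVec_smul]
    rcases i with k | k
    · exact congrArg _ (hx.1 k)
    · rw [hd k, zero_smul, zero_smul]
  have diff : ∀ {R : Fin n → Prop} {x : Gsp F n}, x ∈ MX R → ∀ (v : Vec F n) (k : Fin n),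
      (mv x v - v) (Sum.inr k) = 0 := by
    intro R x hx v k
    rw [Pi.sub_apply, ← ev_bil (mv x v), ← hx.1 k, bil_mv, ev_bil, sub_self]
  refine ext_mv fun v => ?_
  have e1 := key hg _ (diff hh v)
  have e2 := key hh _ (diff hg v)
  rw [sub_eq_add_neg, ← neg_one_smul F v, mv_add, mv_smul] at e1 e2
  rw [mv_mul, mv_mul]
  calc mv g (mv h v) = mv h v + (-1 : F) • v - (-1 : F) • mv g v := by rw [← e1]; abel
    _ = mv g v + (-1 : F) • v - (-1 : F) • mv h v := by simp only [neg_one_smul]; abel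
    _ = mv h (mv g v) := by rw [← e2]; abel

/-- The embedding of `SL₂` on the plane of index `z`. -/
noncomputable def emb (z : Fin n) : S2 F →* Gsp F n := by
  let L : S2 F → (Vec F n →ₗ[F] Vec F n) := fun g =>
    LinearMap.id +
      ((g.1 0 0 - 1) • (bil F n).flip (fv z) - g.1 0 1 • (bil F n).flip (ev z)).smulRight (ev z) +
      (g.1 1 0 • (bil F n).flip (fv z) - (g.1 1 1 - 1) • (bil F n).flip (ev z)).smulRight (fv z)
  have hL : ∀ g v, L g v = v + ((g.1 0 0 - 1) * v (Sum.inl z) + g.1 0 1 * v (Sum.inr z)) • ev z +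
      (g.1 1 0 * v (Sum.inl z) + (g.1 1 1 - 1) * v (Sum.inr z)) • fv z := by
    intro g v
    simp [L, bil_fv, bil_ev]
  have pres : ∀ g v w, bil F n (L g v) (L g w) = bil F n v w := by
    intro g v w
    have hd : g.1 0 0 * g.1 1 1 - g.1 0 1 * g.1 1 0 = 1 := by rw [← Matrix.det_fin_two]; exact g.2
    rw [hL, hL]
    simp only [map_add, map_smul, LinearMap.add_apply, LinearMap.smul_apply, smul_eq_mul, bil_self,
      bil_ef, bil_fv, bil_ev, fv_bil, ev_bil]
    simp [ev, fv]
    linear_combination (v (Sum.inl z) * w (Sum.inr z) - v (Sum.inr z) * w (Sum.inl z)) * hd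
  refine MonoidHom.mk' (fun g => mkG (L g) (pres g)) fun g h => ext_mv fun v => ?_
  rw [mv_mul, mv_mkG, mv_mkG, mv_mkG, hL, hL, hL]
  funext i
  rcases i with k | k <;> rcases eq_or_ne k z with rfl | hk <;>
    simp [ev, fv, vMul, Matrix.mul_apply, Fin.sum_univ_two, *] <;> ring

theorem mv_emb (z : Fin n) (g : S2 F) (v : Vec F n) :
    mv (emb z g) v = v + ((g.1 0 0 - 1) * v (Sum.inl z) + g.1 0 1 * v (Sum.inr z)) • ev z +
      (g.1 1 0 * v (Sum.inl z) + (g.1 1 1 - 1) * v (Sum.inr z)) • fv z := by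
  simp [emb, mv_mkG, bil_fv, bil_ev]

theorem emb_uu (z : Fin n) (c : F) : emb z (uu c) = TV (ev z) (-c) :=
  ext_mv fun v => by simp [mv_emb, mv_TV, uu_val, bil_ev]

theorem emb_ll (z : Fin n) (c : F) : emb z (ll c) = TV (fv z) c :=
  ext_mv fun v => by simp [mv_emb, mv_TV, ll_val, bil_fv]

theorem emb_mem (z : Fin n) (g : S2 F) : emb z g ∈ Fx (fun k => k = z) := fun k hk => by
  simp [mv_emb, ev, fv, Ne.symm hk]

theorem exists_emb {z : Fin n} {g : Gsp F n} (hg : g ∈ Fx (fun k => k = z)) :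
    ∃ x : S2 F, emb z x = g := by
  have hd : mv g (ev z) (Sum.inl z) * mv g (fv z) (Sum.inr z) -
      mv g (fv z) (Sum.inl z) * mv g (ev z) (Sum.inr z) = 1 := by
    have h := bil_mv g (ev z) (fv z)
    rw [bil_ef, bil_apply, Finset.sum_eq_single z] at h
    · linear_combination h
    · intro k _ hk
      rw [(Fx_coord hg hk _).1, (Fx_coord hg hk _).2, (Fx_coord hg hk _).1, (Fx_coord hg hk _).2]
      simp [ev, fv, hk]
    · simp
  let x : S2 F := ⟨!![mv g (ev z) (Sum.inl z), mv g (fv z) (Sum.inl z);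
    mv g (ev z) (Sum.inr z), mv g (fv z) (Sum.inr z)], by rw [Matrix.det_fin_two_of]; exact hd⟩
  refine ⟨x, ?_⟩
  refine ext_basis (fun k => ?_) fun k => ?_
  all_goals rcases eq_or_ne k z with rfl | hk
  · funext i
    rcases i with j | j <;> rcases eq_or_ne j k with rfl | hj <;>
      rw [mv_emb] <;> (try have hc := Fx_coord hg hj) <;> simp [x, ev, fv, *]
  · rw [(hg k hk).1, (emb_mem z _ k hk).1]
  · funext i
    rcases i with j | j <;> rcases eq_or_ne j k with rfl | hj <;>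
      rw [mv_emb] <;> (try have hc := Fx_coord hg hj) <;> simp [x, ev, fv, *]
  · rw [(hg k hk).2, (emb_mem z _ k hk).2]

end Cfsg.Agent.SpAmalgam
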