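import Mathlib
import Cfsg.Agent.Lib.SpAmalgam.Space

/-!
A short presentation of `Sp₄(q)`: generators of `SL₂` on the first plane, the exchange of the planes and
one short root element.
-/

set_option autoImplicit false
set_option linter.unusedSimpArgs false

namespace Cfsg.Agent.SpAmalgam.Four

open Matrix

variable {K : Type*} [Field K]

abbrev G4 (K : Type*) [Field K] : Type _ := Gsp K 2

theorem dd_mul (a b : Kˣ) : dd a * dd b = dd (a * b) := by
  apply Subtype.ext; simp [vMul, dd_val, Matrix.mul_fin_two, mul_comm]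

theorem dd_pow (a : Kˣ) (m : ℕ) : dd a ^ m = dd (a ^ m) := by
  induction m with
  | zero => apply Subtype.ext; simp [dd_val, Matrix.one_fin_two]
  | succ m ih => rw [pow_succ, ih, dd_mul, pow_succ]

theorem dd_uu (a : Kˣ) (c : K) : dd a * uu c = uu ((a : K) ^ 2 * c) * dd a := by
  apply Subtype.ext; simp [vMul, dd_val, uu_val, Matrix.mul_fin_two]; field_simp

theorem dd_ll (a : Kˣ) (c : K) : dd a * ll c = ll (((a : K)⁻¹) ^ 2 * c) * dd a := by
  apply Subtype.ext; simp [vMul, dd_val, ll_val, Matrix.mul_fin_two]; field_simp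

/-- The action of `SL₂` on pairs. -/
def mA (g : S2 K) (a : K × K) : K × K :=
  (g.1 0 0 * a.1 + g.1 0 1 * a.2, g.1 1 0 * a.1 + g.1 1 1 * a.2)

theorem mA_mul (g h : S2 K) (a : K × K) : mA (g * h) a = mA g (mA h a) := by
  simp [mA, vMul, Matrix.mul_apply, Fin.sum_univ_two]
  constructor <;> ring

theorem mA_one (a : K × K) : mA 1 a = a := by simp [mA]

theorem sl_det (g : S2 K) : g.1 0 0 * g.1 1 1 - g.1 0 1 * g.1 1 0 = 1 := by
  rw [← Matrix.det_fin_two]; exact g.2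

/-- An element of `SL₂` with prescribed first column. -/
noncomputable def gA (a : K × K) : S2 K :=
  haveI := Classical.propDecidable
  if h : ∃ g : S2 K, g.1 0 0 = a.1 ∧ g.1 1 0 = a.2 then h.choose else 1

theorem gA_spec {a : K × K} (ha : a ≠ 0) : mA (gA a) (1, 0) = a := by
  have h : ∃ g : S2 K, g.1 0 0 = a.1 ∧ g.1 1 0 = a.2 := by
    refine Stage.exists_col ?_
    by_contra hc
    push Not at hc
    exact ha (Prod.ext hc.1 hc.2)
  rw [gA, dif_pos h]
  simp [mA, h.choose_spec.1, h.choose_spec.2]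

/-- The relations, as they are used. -/
structure Rel4 {G : Type*} [Group G] (j : Kˣ) (φ : S2 K →* G) (s x : G) : Prop where
  comm : ∀ g h, Commute (φ g) (s * φ h * s⁻¹)
  s2 : s * s = 1
  sx : Commute s x
  dx : φ (dd j) * x * (φ (dd j))⁻¹ = s * φ (dd j) * s⁻¹ * x * (s * φ (dd j) * s⁻¹)⁻¹
  ux : ∀ c ∈ ({1, (j : K)} : Set K), Commute (φ (uu c)) x
  hr : ∀ c ∈ ({1, (j : K)} : Set K), ∀ hc : c ≠ 0, φ (ll c) * x * (φ (ll c))⁻¹ =
    x * (φ (ss * dd (Units.mk0 c hc)) * x * (φ (ss * dd (Units.mk0 c hc)))⁻¹) *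
      (s * φ (uu (-c)) * s⁻¹)

variable {G : Type*} [Group G] {j : Kˣ} {φ : S2 K →* G} {s x : G}

/-- The second copy of `SL₂`. -/
def σ (φ : S2 K →* G) (s : G) : S2 K →* G := (MulAut.conj s).toMonoidHom.comp φ

theorem σ_apply (g : S2 K) : σ φ s g = s * φ g * s⁻¹ := rfl

/-- The Siegel elements. -/
noncomputable def QF (φ : S2 K →* G) (x : G) (a : K × K) : G :=
  haveI := Classical.propDecidable
  if a = 0 then 1 else φ (gA a) * x * (φ (gA a))⁻¹

theorem squares (hj : ∀ t, t ∈ Subgroup.zpowers j) (c : K) (hc : c ≠ 0) :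
    ∃ c0 ∈ ({1, (j : K)} : Set K), ∃ t : Kˣ, c = c0 * (t : K) ^ 2 := by
  obtain ⟨i, hi⟩ := hj (Units.mk0 c hc)
  change j ^ i = _ at hi
  rcases Int.even_or_odd' i with ⟨m, rfl | rfl⟩
  · refine ⟨1, Or.inl rfl, j ^ m, ?_⟩
    rw [one_mul, ← Units.val_pow_eq_pow_val, ← zpow_natCast (j ^ m), ← _root_.zpow_mul, mul_comm m,
      show ((2 : ℕ) : ℤ) = 2 from rfl, hi, Units.val_mk0]
  · refine ⟨j, Or.inr rfl, j ^ m, ?_⟩
    rw [← Units.val_pow_eq_pow_val, ← Units.val_mul, ← zpow_natCast (j ^ m), ← _root_.zpow_mul,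
      mul_comm m, show ((2 : ℕ) : ℤ) = 2 from rfl, mul_comm, ← _root_.zpow_add_one, hi, Units.val_mk0]

variable [Finite K] (R : Rel4 j φ s x) (hj : ∀ t, t ∈ Subgroup.zpowers j)
include R hj

theorem dd_x (t : Kˣ) : φ (dd t) * x * (φ (dd t))⁻¹ = σ φ s (dd t) * x * (σ φ s (dd t))⁻¹ := by
  obtain ⟨i, hi⟩ := mem_powers_iff_mem_zpowers.2 (hj t)
  change j ^ i = t at hi
  subst hi
  rw [← dd_pow, map_pow, map_pow]
  have hc : Commute (φ (dd j)) (σ φ s (dd j)) := R.comm _ _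
  have h1 : φ (dd j) * x * (φ (dd j))⁻¹ = σ φ s (dd j) * x * (σ φ s (dd j))⁻¹ := R.dx
  induction i with
  | zero => simp
  | succ i ih =>
    calc φ (dd j) ^ (i + 1) * x * (φ (dd j) ^ (i + 1))⁻¹
        = φ (dd j) ^ i * (φ (dd j) * x * (φ (dd j))⁻¹) * (φ (dd j) ^ i)⁻¹ := by group
      _ = φ (dd j) ^ i * σ φ s (dd j) * x * (φ (dd j) ^ i * σ φ s (dd j))⁻¹ := by rw [h1]; group
      _ = σ φ s (dd j) * (φ (dd j) ^ i * x * (φ (dd j) ^ i)⁻¹) * (σ φ s (dd j))⁻¹ := by
          rw [(hc.pow_left i).eq]; group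
      _ = _ := by rw [ih]; group

theorem uu_x (c : K) : Commute (φ (uu c)) x := by
  by_cases hc : c = 0
  · rw [hc, uu_zero, map_one]; exact Commute.one_left _
  obtain ⟨c0, hc0, t, rfl⟩ := squares hj c hc
  have h1 : φ (uu (c0 * (t : K) ^ 2)) = φ (dd t) * φ (uu c0) * (φ (dd t))⁻¹ := by
    rw [eq_mul_inv_iff_mul_eq, ← map_mul, ← map_mul, dd_uu, mul_comm c0]
  have h2 : φ (dd t) * φ (uu c0) * (φ (dd t))⁻¹ =
      σ φ s (dd t⁻¹) * (φ (dd t) * φ (uu c0) * (φ (dd t))⁻¹) * (σ φ s (dd t⁻¹))⁻¹ := by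
    rw [← map_inv, ← map_mul, ← map_mul]
    exact (mul_inv_eq_iff_eq_mul.2 ((R.comm _ _).symm.eq)).symm
  have h3 : x = σ φ s (dd t⁻¹) * (φ (dd t) * x * (φ (dd t))⁻¹) * (σ φ s (dd t⁻¹))⁻¹ := by
    rw [dd_x R hj, ← dd_inv, map_inv]; group
  rw [h1]
  rw [h2]
  have := (Commute.conj_iff (σ φ s (dd t⁻¹))).2 ((Commute.conj_iff (φ (dd t))).2 (R.ux c0 hc0))
  rwa [← h3] at this

theorem QF_eq (g : S2 K) : QF φ x (mA g (1, 0)) = φ g * x * (φ g)⁻¹ := by
  have hne : mA g (1, 0) ≠ 0 := by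
    intro h
    have h1 : g.1 0 0 = 0 := by simpa [mA] using congrArg Prod.fst h
    have h2 : g.1 1 0 = 0 := by simpa [mA] using congrArg Prod.snd h
    have := sl_det g
    rw [h1, h2, zero_mul, mul_zero, sub_zero] at this
    exact zero_ne_one this
  rw [QF, if_neg hne]
  have hs := gA_spec hne
  generalize gA (mA g (1, 0)) = g' at hs
  have h : mA (g⁻¹ * g') (1, 0) = (1, 0) := by
    rw [mA_mul, hs, ← mA_mul, inv_mul_cancel, mA_one]
  have hu := eq_mul_uu (g⁻¹ * g') (by simpa [mA] using congrArg Prod.snd h)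
    (by simpa [mA] using congrArg Prod.fst h)
  rw [show g' = g * (g⁻¹ * g') by group, hu, map_mul]
  calc φ g * φ (uu ((g⁻¹ * g').1 0 1)) * x * (φ g * φ (uu ((g⁻¹ * g').1 0 1)))⁻¹
      = φ g * (φ (uu ((g⁻¹ * g').1 0 1)) * x * (φ (uu ((g⁻¹ * g').1 0 1)))⁻¹) * (φ g)⁻¹ := by group
    _ = _ := by rw [(uu_x R hj _).eq, mul_inv_cancel_right]

omit R hj [Finite K] in
theorem QF_zero : QF φ x (0 : K × K) = 1 := by rw [QF, if_pos rfl]

theorem QF_base : QF φ x ((1 : K), (0 : K)) = x := by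
  have := QF_eq R hj 1
  rwa [mA_one, map_one, one_mul, inv_one, mul_one] at this

theorem R2 (g : S2 K) (a : K × K) : φ g * QF φ x a = QF φ x (mA g a) * φ g := by
  by_cases ha : a = 0
  · rw [ha, show mA g (0 : K × K) = 0 by simp [mA], QF_zero, mul_one, one_mul]
  rw [← gA_spec ha, ← mA_mul, QF_eq R hj, QF_eq R hj, map_mul]
  group

theorem R4u (k : K) (a : K × K) : Commute (σ φ s (uu k)) (QF φ x a) := by
  by_cases ha : a = 0
  · rw [ha, QF_zero]; exact Commute.one_right _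
  have h1 : Commute (σ φ s (uu k)) x := by
    have := (Commute.conj_iff s).2 (uu_x R hj k)
    rwa [R.sx.eq, mul_inv_cancel_right] at this
  rw [← gA_spec ha, QF_eq R hj]
  exact (((R.comm _ _).symm).mul_right h1).mul_right (R.comm _ _).symm.inv_right

theorem R4d (t : Kˣ) (a : K × K) :
    σ φ s (dd t) * QF φ x a = QF φ x ((t : K) • a) * σ φ s (dd t) := by
  by_cases ha : a = 0
  · rw [ha, smul_zero, QF_zero, mul_one, one_mul]
  rw [← gA_spec ha, QF_eq R hj]
  have e : (t : K) • mA (gA a) (1, 0) = mA (gA a * dd t) (1, 0) := by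
    simp [mA, vMul, dd_val, Matrix.mul_apply, Fin.sum_univ_two, mul_comm]
  rw [e, QF_eq R hj, map_mul]
  have hc : Commute (φ (gA a)) (σ φ s (dd t)) := R.comm _ _
  calc σ φ s (dd t) * (φ (gA a) * x * (φ (gA a))⁻¹)
      = φ (gA a) * (σ φ s (dd t) * x * (σ φ s (dd t))⁻¹) * (σ φ s (dd t) * (φ (gA a))⁻¹) := by
        rw [← mul_assoc, ← mul_assoc, ← hc.eq]; group
    _ = φ (gA a) * (φ (dd t) * x * (φ (dd t))⁻¹) * ((φ (gA a))⁻¹ * σ φ s (dd t)) := by
        rw [← dd_x R hj, hc.inv_left.eq]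
    _ = _ := by group

theorem F_eq (c : K) : φ (ll c) * x * (φ (ll c))⁻¹ = x * QF φ x (0, c) * σ φ s (uu (-c)) := by
  by_cases hc : c = 0
  · rw [hc, show ((0 : K), (0 : K)) = (0 : K × K) from rfl, QF_zero, ll_zero, neg_zero, uu_zero,
      map_one, map_one, one_mul, inv_one, mul_one, mul_one]
  obtain ⟨c0, hc0, t, rfl⟩ := squares hj c hc
  have hc0' : c0 ≠ 0 := left_ne_zero_of_mul hc
  have base : φ (ll c0) * x * (φ (ll c0))⁻¹ = x * QF φ x (0, c0) * σ φ s (uu (-c0)) := by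
    rw [R.hr c0 hc0 hc0', ← QF_eq R hj (ss * dd (Units.mk0 c0 hc0')), σ_apply]
    simp [mA, vMul, ss_val, dd_val, Matrix.mul_fin_two]
  -- scale by the tori
  have hT : ∀ u : G, σ φ s (dd t) * u * (σ φ s (dd t))⁻¹ = σ φ s (dd t) * u * (σ φ s (dd t))⁻¹ :=
    fun _ => rfl
  have hxQ : ∀ a, σ φ s (dd t) * QF φ x a * (σ φ s (dd t))⁻¹ = QF φ x ((t : K) • a) := fun a => by
    rw [R4d R hj, mul_inv_cancel_right]
  have hzu : σ φ s (dd t) * σ φ s (uu (-c0)) * (σ φ s (dd t))⁻¹ =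
      σ φ s (uu (-(c0 * (t : K) ^ 2))) := by
    rw [mul_inv_eq_iff_eq_mul, ← map_mul, ← map_mul, dd_uu, mul_neg, mul_comm c0]
  have hφ : ∀ g, σ φ s (dd t) * φ g * (σ φ s (dd t))⁻¹ = φ g := fun g => by
    rw [(show Commute (σ φ s (dd t)) (φ g) from (R.comm g _).symm).eq, mul_inv_cancel_right]
  have step1 : φ (ll c0) * QF φ x ((t : K), 0) * (φ (ll c0))⁻¹ =
      QF φ x ((t : K), 0) * QF φ x (0, (t : K) * c0) * σ φ s (uu (-(c0 * (t : K) ^ 2))) := by
    have h := congrArg (fun u => σ φ s (dd t) * u * (σ φ s (dd t))⁻¹) base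
    simp only [← conj_mul, map_inv] at h
    have hxx := hxQ ((1 : K), (0 : K))
    rw [QF_base R hj] at hxx
    rw [← map_inv φ, hφ, hφ, hxx, hxQ, hzu] at h
    rw [← map_inv φ]
    simpa [mul_comm] using h
  have hd : ∀ a, φ (dd t⁻¹) * QF φ x a * (φ (dd t⁻¹))⁻¹ = QF φ x (mA (dd t⁻¹) a) := fun a => by
    rw [R2 R hj, mul_inv_cancel_right]
  have hdz : ∀ g, φ (dd t⁻¹) * σ φ s g * (φ (dd t⁻¹))⁻¹ = σ φ s g := fun g => by
    rw [(show Commute (φ (dd t⁻¹)) (σ φ s g) from R.comm _ g).eq, mul_inv_cancel_right]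
  have hdl : φ (dd t⁻¹) * φ (ll c0) * (φ (dd t⁻¹))⁻¹ = φ (ll (c0 * (t : K) ^ 2)) := by
    rw [mul_inv_eq_iff_eq_mul, ← map_mul, ← map_mul, dd_ll, Units.val_inv_eq_inv_val, inv_inv,
      mul_comm c0]
  have h := congrArg (fun u => φ (dd t⁻¹) * u * (φ (dd t⁻¹))⁻¹) step1
  simp only [← conj_mul] at h
  rw [hd, hd, hdz, hdl, show φ (dd t⁻¹) * (φ (ll c0))⁻¹ * (φ (dd t⁻¹))⁻¹ =
    (φ (dd t⁻¹) * φ (ll c0) * (φ (dd t⁻¹))⁻¹)⁻¹ by group, hdl] at h
  have e1 : mA (dd t⁻¹) ((t : K), (0 : K)) = (1, 0) := by simp [mA, dd_val]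
  have e2 : mA (dd t⁻¹) ((0 : K), (t : K) * c0) = (0, c0 * (t : K) ^ 2) := by
    simp [mA, dd_val]
    ring
  rw [e1, e2, QF_base R hj] at h
  exact h

theorem Qf_add (c c' : K) : QF φ x (0, c) * QF φ x (0, c') = QF φ x (0, c + c') := by
  have h := F_eq R hj (c + c')
  rw [← ll_mul, map_mul, show φ (ll c) * φ (ll c') * x * (φ (ll c) * φ (ll c'))⁻¹ =
    φ (ll c) * (φ (ll c') * x * (φ (ll c'))⁻¹) * (φ (ll c))⁻¹ by group, F_eq R hj c'] at h
  have hlQ : φ (ll c) * QF φ x (0, c') = QF φ x (0, c') * φ (ll c) := by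
    rw [R2 R hj]; simp [mA, ll_val]
  have hlz : φ (ll c) * σ φ s (uu (-c')) = σ φ s (uu (-c')) * φ (ll c) := (R.comm _ _).eq
  rw [show φ (ll c) * (x * QF φ x (0, c') * σ φ s (uu (-c'))) * (φ (ll c))⁻¹ =
    (φ (ll c) * x * (φ (ll c))⁻¹) * (φ (ll c) * QF φ x (0, c') * (φ (ll c))⁻¹) *
      (φ (ll c) * σ φ s (uu (-c')) * (φ (ll c))⁻¹) by group, hlQ, hlz, mul_inv_cancel_right,
    mul_inv_cancel_right, F_eq R hj c,
    mul_assoc (x * QF φ x (0, c)), (R4u R hj (-c) (0, c')).eq, ← mul_assoc, mul_assoc,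
    ← map_mul, uu_mul, ← neg_add, mul_assoc x] at h
  exact mul_left_cancel (mul_right_cancel h)

theorem Qe_add (k k' : K) : QF φ x (k, 0) * QF φ x (k', 0) = QF φ x (k + k', 0) := by
  have h := congrArg (fun u => (φ ss)⁻¹ * u * φ ss) (Qf_add R hj k k')
  try simp only at h
  have e : ∀ a : K, (φ ss)⁻¹ * QF φ x (0, a) * φ ss = QF φ x (a, 0) := fun a => by
    have h' := R2 R hj ss (a, 0)
    rw [show mA ss (a, (0 : K)) = (0, a) by simp [mA, ss_val]] at h'
    rw [mul_assoc, ← h', inv_mul_cancel_left]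
  rw [show (φ ss)⁻¹ * (QF φ x (0, k) * QF φ x (0, k')) * φ ss =
    ((φ ss)⁻¹ * QF φ x (0, k) * φ ss) * ((φ ss)⁻¹ * QF φ x (0, k') * φ ss) by group, e, e, e] at h
  exact h

/-- The form on pairs. -/
def w2 (a b : K × K) : K := a.1 * b.2 - a.2 * b.1

omit R hj [Finite K] in
theorem w2_mA (g : S2 K) (a b : K × K) : w2 (mA g a) (mA g b) = w2 a b := by
  simp only [w2, mA]
  linear_combination (a.1 * b.2 - a.2 * b.1) * sl_det g

theorem R3 (a b : K × K) :
    QF φ x a * QF φ x b = QF φ x (a + b) * σ φ s (uu (w2 a b)) := by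
  by_cases ha : a = 0
  · subst ha
    simp [QF_zero, w2, uu_zero]
  have conjg : ∀ (g : S2 K) (a b : K × K),
      QF φ x a * QF φ x b = QF φ x (a + b) * σ φ s (uu (w2 a b)) →
      QF φ x (mA g a) * QF φ x (mA g b) = QF φ x (mA g a + mA g b) * σ φ s (uu (w2 (mA g a) (mA g b))) := by
    intro g a b h
    have hadd : mA g a + mA g b = mA g (a + b) := by
      simp [mA]; constructor <;> ring
    rw [hadd, w2_mA, ← mul_left_inj (φ g), mul_assoc, ← R2 R hj, ← mul_assoc, ← R2 R hj, mul_assoc,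
      h, ← mul_assoc, R2 R hj, mul_assoc,
      (show Commute (φ g) (σ φ s (uu (w2 a b))) from R.comm g _).eq, ← mul_assoc]
  have hb' : mA (gA a) (mA (gA a)⁻¹ b) = b := by rw [← mA_mul, mul_inv_cancel, mA_one]
  rw [← gA_spec ha, ← hb']
  refine conjg _ _ _ ?_
  obtain ⟨k, c⟩ := mA (gA a)⁻¹ b
  by_cases hc : c = 0
  · subst hc
    rw [Qe_add R hj, show w2 ((1 : K), (0 : K)) (k, 0) = 0 by simp [w2], uu_zero, map_one, mul_one]
    simp
  have h1 : mA (uu (k / c)) ((1 : K), (0 : K)) = (1, 0) := by simp [mA, uu_val]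
  have h2 : mA (uu (k / c)) ((0 : K), c) = (k, c) := by simp [mA, uu_val]; field_simp
  rw [← h1, ← h2]
  refine conjg _ _ _ ?_
  rw [QF_base R hj, show w2 ((1 : K), (0 : K)) (0, c) = c by simp [w2],
    show ((1 : K), (0 : K)) + (0, c) = (1, c) by simp]
  have he : QF φ x (1, c) = φ (ll c) * x * (φ (ll c))⁻¹ := by
    rw [← QF_eq R hj]; simp [mA, ll_val]
  rw [he, F_eq R hj, mul_assoc, ← map_mul, uu_mul, neg_add_cancel, uu_zero, map_one, mul_one]

/-- The transvection of a pair as an element of `SL₂`. -/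
def tau (a : K × K) (c : K) : S2 K :=
  ⟨!![1 + c * a.1 * a.2, -(c * a.1 * a.1); c * a.2 * a.2, 1 - c * a.1 * a.2], by
    rw [Matrix.det_fin_two_of]; ring⟩

omit R hj [Finite K] in
theorem mA_tau (a : K × K) (c : K) (u : K × K) : mA (tau a c) u = u + (c * w2 u a) • a := by
  simp [mA, tau, w2, Prod.ext_iff]
  constructor <;> ring

omit R hj [Finite K] in
theorem mA_ext {g h : S2 K} (e : ∀ u, mA g u = mA h u) : g = h := by
  have e1 := e (1, 0)
  have e2 := e (0, 1)
  simp [mA] at e1 e2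
  apply Subtype.ext
  ext i l
  fin_cases i <;> fin_cases l <;> simp [e1, e2]

theorem R5 (c : K) (a : K × K) : σ φ s (ll c) * QF φ x a =
    QF φ x a * (σ φ s ss * QF φ x (c • a) * (σ φ s ss)⁻¹) * φ (tau a c) * σ φ s (ll c) := by
  by_cases ha : a = 0
  · subst ha
    rw [smul_zero, QF_zero, mul_one, mul_one, one_mul, mul_inv_cancel, one_mul,
      show tau (0 : K × K) c = 1 from mA_ext fun u => by rw [mA_tau, mA_one, smul_zero, add_zero],
      map_one, one_mul]
  -- the base case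
  have base : σ φ s (ll c) * x * (σ φ s (ll c))⁻¹ =
      x * (σ φ s ss * QF φ x (c, 0) * (σ φ s ss)⁻¹) * φ (tau (1, 0) c) := by
    have hs : s⁻¹ = s := inv_eq_of_mul_eq_one_right R.s2
    have h := congrArg (fun u => s * u * s⁻¹) (F_eq R hj c)
    simp only [← conj_mul] at h
    rw [R.sx.eq, mul_inv_cancel_right, show s * (φ (ll c))⁻¹ * s⁻¹ = (σ φ s (ll c))⁻¹ by
      rw [σ_apply]; group, show s * φ (ll c) * s⁻¹ = σ φ s (ll c) from rfl] at h
    have e1 : s * σ φ s (uu (-c)) * s⁻¹ = φ (tau (1, 0) c) := by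
      rw [σ_apply, show s * (s * φ (uu (-c)) * s⁻¹) * s⁻¹ = (s * s) * φ (uu (-c)) * (s * s)⁻¹ by group,
        R.s2, one_mul, inv_one, mul_one]
      congr 1
      apply Subtype.ext
      simp [tau, uu_val]
    have e2 : s * QF φ x (0, c) * s⁻¹ = σ φ s ss * QF φ x (c, 0) * (σ φ s ss)⁻¹ := by
      by_cases hc : c = 0
      · subst hc
        simp [show ((0 : K), (0 : K)) = (0 : K × K) from rfl, QF_zero]
      have hg : mA (ss * dd (Units.mk0 c hc)) ((1 : K), (0 : K)) = (0, c) := by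
        simp [mA, vMul, ss_val, dd_val, Matrix.mul_fin_two]
      have hgd : mA (dd (Units.mk0 c hc)) ((1 : K), (0 : K)) = (c, 0) := by simp [mA, dd_val]
      rw [← hg, QF_eq R hj, ← hgd, QF_eq R hj, dd_x R hj, map_mul, σ_apply, σ_apply]
      calc s * (φ ss * φ (dd (Units.mk0 c hc)) * x * (φ ss * φ (dd (Units.mk0 c hc)))⁻¹) * s⁻¹
          = s * φ ss * s⁻¹ * (s * φ (dd (Units.mk0 c hc)) * s⁻¹) * (s * x * s⁻¹) *
              (s * φ (dd (Units.mk0 c hc)) * s⁻¹)⁻¹ * (s * φ ss * s⁻¹)⁻¹ := by group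
        _ = _ := by rw [R.sx.eq, mul_inv_cancel_right]; group
    rw [e1, e2] at h
    exact h
  have ha' := gA_spec ha
  generalize gA a = g at ha'
  subst ha'
  have hτ : φ g * φ (tau (1, 0) c) = φ (tau (mA g (1, 0)) c) * φ g := by
    rw [← map_mul, ← map_mul]
    congr 1
    refine mA_ext fun u => ?_
    rw [mA_mul, mA_mul, mA_tau, mA_tau, w2_mA]
    simp [mA]
    constructor <;> ring
  have hsm : c • mA g ((1 : K), (0 : K)) = mA g (c, 0) := by simp [mA, mul_comm]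
  rw [hsm, ← mul_inv_eq_iff_eq_mul]
  have hg : ∀ b, Commute (φ g) (σ φ s b) := fun b => R.comm g b
  calc σ φ s (ll c) * QF φ x (mA g (1, 0)) * (σ φ s (ll c))⁻¹
      = φ g * (σ φ s (ll c) * x * (σ φ s (ll c))⁻¹) * (φ g)⁻¹ := by
        rw [QF_eq R hj, ← mul_assoc, ← mul_assoc, ← (hg (ll c)).eq, mul_assoc _ (φ g)⁻¹,
          ((hg (ll c)).inv_inv).eq]
        group
    _ = (φ g * x * (φ g)⁻¹) * (φ g * σ φ s ss) * QF φ x (c, 0) * ((σ φ s ss)⁻¹ *
          φ (tau (1, 0) c)) * (φ g)⁻¹ := by rw [base]; group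
    _ = (φ g * x * (φ g)⁻¹) * σ φ s ss * (φ g * QF φ x (c, 0)) * (φ (tau (1, 0) c) *
          (σ φ s ss)⁻¹) * (φ g)⁻¹ := by
        rw [(hg ss).eq, ((show Commute (φ (tau (1, 0) c)) (σ φ s ss) from R.comm _ _).symm.inv_left).eq]; group
    _ = (φ g * x * (φ g)⁻¹) * σ φ s ss * QF φ x (mA g (c, 0)) * (φ g * φ (tau (1, 0) c)) *
          ((σ φ s ss)⁻¹ * (φ g)⁻¹) := by rw [R2 R hj]; group
    _ = (φ g * x * (φ g)⁻¹) * σ φ s ss * QF φ x (mA g (c, 0)) *
          (φ (tau (mA g (1, 0)) c) * (σ φ s ss)⁻¹) := by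
        rw [hτ, ← ((hg ss).inv_inv).eq]; group
    _ = _ := by
        rw [((show Commute (φ (tau (mA g (1, 0)) c)) (σ φ s ss) from R.comm _ _).inv_right).eq, ← QF_eq R hj]; group

omit R hj [Finite K]

/-- The symplectic space of the first plane inside the four-dimensional one. -/
def io (t : (K × K) × K × K) : Vec K 2 :=
  t.1.1 • ev 0 + t.1.2 • fv 0 + t.2.1 • ev 1 + t.2.2 • fv 1

theorem io_val (t : (K × K) × K × K) :
    io t (Sum.inl 0) = t.1.1 ∧ io t (Sum.inr 0) = t.1.2 ∧ io t (Sum.inl 1) = t.2.1 ∧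
      io t (Sum.inr 1) = t.2.2 := by
  simp [io, ev, fv]

theorem io_surj (v : Vec K 2) :
    io ((v (Sum.inl 0), v (Sum.inr 0)), v (Sum.inl 1), v (Sum.inr 1)) = v := by
  funext i
  rcases i with k | k <;> fin_cases k <;> simp [io, ev, fv]

theorem io_injective : Function.Injective (io (K := K)) := fun a b h => by
  obtain ⟨a1, a2, a3, a4⟩ := io_val a
  obtain ⟨b1, b2, b3, b4⟩ := io_val b
  rw [h] at a1 a2 a3 a4
  exact Prod.ext (Prod.ext (a1.symm.trans b1) (a2.symm.trans b2))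
    (Prod.ext (a3.symm.trans b3) (a4.symm.trans b4))

theorem emb0_io (g : S2 K) (u : K × K) (α β : K) :
    mv (emb 0 g) (io (u, α, β)) = io (mA g u, α, β) := by
  rw [mv_emb]
  funext i
  rcases i with k | k <;> fin_cases k <;> simp [io, mA, ev, fv] <;> ring

theorem emb1_io (g : S2 K) (u : K × K) (α β : K) :
    mv (emb 1 g) (io (u, α, β)) = io (u, g.1 0 0 * α + g.1 0 1 * β, g.1 1 0 * α + g.1 1 1 * β) := by
  rw [mv_emb]
  funext i
  rcases i with k | k <;> fin_cases k <;> simp [io, ev, fv] <;> ring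

/-- The short root element. -/
noncomputable def x4 : G4 K := TT (ev 0) (ev 1)

theorem bil01 : bil K 2 (ev 0) (ev 1) = 0 := by simp [bil_ev, ev]

theorem QF_io (a u : K × K) (α β : K) (g : S2 K) (hg : mA g (1, 0) = a) :
    mv (emb 0 g * x4 * (emb 0 g)⁻¹) (io (u, α, β)) = io (u - β • a, α + w2 u a, β) := by
  rw [x4, conj_TT _ bil01, mul_inv_cancel_right]
  have e1 : mv (emb 0 g) (ev 0) = io (a, 0, 0) := by
    rw [← hg]
    have := emb0_io g ((1 : K), (0 : K)) 0 0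
    simpa [io] using this
  have e2 : mv (emb 0 g) (ev 1) = ev 1 := (emb_mem (0 : Fin 2) g 1 (by decide)).1
  rw [e1, e2, mv_TT (by simp [io, bil_ev, ev, fv])]
  funext i
  rcases i with k | k <;> fin_cases k <;>
    simp [io, w2, bil_ev, bil_fv, ev, fv] <;> ring

section perm

/-- The exchange of the two planes. -/
noncomputable def swap4 : G4 K :=
  mkG (LinearMap.funLeft K K (Sum.map (Equiv.swap (0 : Fin 2) 1) (Equiv.swap (0 : Fin 2) 1))) fun v w => by
    simp [bil_apply, LinearMap.funLeft_apply, Fin.sum_univ_two]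
    ring

theorem swap4_io (u : K × K) (α β : K) :
    mv swap4 (io (u, α, β)) = io ((α, β), u.1, u.2) := by
  rw [swap4, mv_mkG]
  funext i
  rcases i with k | k <;> fin_cases k <;> simp [io, ev, fv, LinearMap.funLeft_apply]

theorem swap4_sq : (swap4 : G4 K) * swap4 = 1 := ext_mv fun v => by
  rw [← io_surj v, mv_mul, swap4_io, swap4_io, mv_one]

theorem swap4_emb (g : S2 K) : (swap4 : G4 K) * emb 0 g * swap4⁻¹ = emb 1 g := by
  rw [mul_inv_eq_iff_eq_mul]
  refine ext_mv fun v => ?_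
  rw [← io_surj v, mv_mul, mv_mul, emb0_io, swap4_io, swap4_io, emb1_io]
  rfl

theorem swap4_x : Commute (swap4 : G4 K) x4 := by
  show _ = _
  rw [x4, conj_TT _ bil01]
  congr 1
  have h0 : mv (swap4 : G4 K) (ev 0) = ev 1 := by
    have := swap4_io ((1 : K), (0 : K)) 0 0
    simpa [io] using this
  have h1 : mv (swap4 : G4 K) (ev 1) = ev 0 := by
    have := swap4_io ((0 : K), (0 : K)) 1 0
    simpa [io] using this
  rw [h0, h1]
  exact ext_mv fun v => by
    rw [mv_TT bil01, mv_TT (by simp [bil_ev, ev])]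
    abel

end perm

theorem rel4_sp (j : Kˣ) : Rel4 j (emb (0 : Fin 2)) (swap4 : G4 K) x4 where
  comm g h := by
    rw [swap4_emb]
    exact Fx_commute (P := fun k : Fin 2 => k = 0) (Q := fun k : Fin 2 => k = 1)
      (fun k h0 h1 => by simp_all) (emb_mem 0 g) (emb_mem 1 h)
  s2 := swap4_sq
  sx := swap4_x
  dx := by
    rw [swap4_emb, x4, conj_TT _ bil01, conj_TT _ bil01, mul_inv_cancel_right, mul_inv_cancel_right]
    refine ext_mv fun v => ?_
    rw [mv_TT (by rw [bil_mv, bil01]), mv_TT (by rw [bil_mv, bil01])]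
    simp [mv_emb, dd_val, ev, fv, sub_smul, smul_smul]
    module
  ux c _ := by
    show _ = _
    rw [emb_uu, x4]
    refine ext_mv fun v => ?_
    rw [mv_mul, mv_mul, mv_TV, mv_TT bil01, mv_TV, mv_TT bil01]
    simp [bil_ev, ev, map_add, map_smul]
    module
  hr c _ hc := by
    have e1 : ∀ g : S2 K, ∀ u α β, mv (emb 0 g * x4 * (emb 0 g)⁻¹) (io (u, α, β)) =
        io (u - β • mA g (1, 0), α + w2 u (mA g (1, 0)), β) := fun g u α β => QF_io _ u α β g rfl
    have e0 := e1 1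
    simp only [map_one, one_mul, inv_one, mul_one] at e0
    refine ext_mv fun v => ?_
    rw [← io_surj v]
    generalize (v (Sum.inl 0), v (Sum.inr 0)) = u
    generalize v (Sum.inl 1) = α
    generalize v (Sum.inr 1) = β
    rw [e1, mv_mul, mv_mul, swap4_emb, emb1_io, e1, e0]
    congr 1
    simp [mA, vMul, ll_val, ss_val, dd_val, uu_val, w2, Matrix.mul_fin_two, Prod.ext_iff]
    ring

/-- The subgroup of the standard generators is everything. -/
theorem top_of_mem (H : Subgroup (G4 K)) (hφ : ∀ g, emb 0 g ∈ H) (h1 : ∀ g, emb 1 g ∈ H)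
    (hx : x4 ∈ H) : H = ⊤ := by
  have hQ : ∀ a : K × K, a ≠ 0 → ∃ q ∈ H, ∀ u α β, mv q (io (u, α, β)) = io (u - β • a, α + w2 u a, β) :=
    fun a ha => ⟨_, mul_mem (mul_mem (hφ (gA a)) hx) (inv_mem (hφ _)),
      fun u α β => QF_io a u α β _ (gA_spec ha)⟩
  have reach : ∀ t : (K × K) × K × K, t ≠ 0 → ∃ k ∈ H, mv k (ev 1) = io t := by
    rintro ⟨u, α, β⟩ ht
    have hev : (ev 1 : Vec K 2) = io (0, 1, 0) := by simp [io]
    have hw : ∀ u α β, α ≠ 0 ∨ β ≠ 0 → ∃ k ∈ H, mv k (ev 1) = io (u, α, β) := by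
      intro u α β h
      obtain ⟨g, rfl, rfl⟩ := Stage.exists_col h
      by_cases hu : u = 0
      · subst hu
        exact ⟨emb 1 g, h1 g, by rw [hev, emb1_io]; simp⟩
      obtain ⟨q, hq, hqa⟩ := hQ (-u) (neg_ne_zero.2 hu)
      have hss : (ss⁻¹ : S2 K).1 = !![0, 1; -1, 0] := by
        show (ss : S2 K).1.adjugate = _
        simp [ss_val, Matrix.adjugate_fin_two]
      refine ⟨emb 1 g * (emb 1 ss⁻¹ * q * emb 1 ss),
        mul_mem (h1 g) (mul_mem (mul_mem (h1 _) hq) (h1 _)), ?_⟩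
      rw [hev, mv_mul, mv_mul, mv_mul, emb1_io, hqa, emb1_io, emb1_io]
      simp [ss_val, hss, w2]
    by_cases h : α ≠ 0 ∨ β ≠ 0
    · exact hw u α β h
    push Not at h
    obtain ⟨rfl, rfl⟩ := h
    have hu : u ≠ 0 := fun e => ht (by rw [e]; rfl)
    obtain ⟨a, ha⟩ : ∃ a, w2 u a = -1 := by
      by_cases h1 : u.1 = 0
      · have h2 : u.2 ≠ 0 := fun e => hu (Prod.ext h1 e)
        exact ⟨((u.2)⁻¹, 0), by simp [w2, h2]⟩
      · exact ⟨(0, -(u.1)⁻¹), by simp [w2, h1]⟩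
    have ha0 : a ≠ 0 := fun e => by simp [e, w2] at ha
    obtain ⟨k, hk, hke⟩ := hw u 1 0 (Or.inl one_ne_zero)
    obtain ⟨q, hq, hqa⟩ := hQ a ha0
    exact ⟨q * k, mul_mem hq hk, by rw [mv_mul, hke, hqa, ha]; simp⟩
  rw [eq_top_iff]
  intro g _
  have hne : (mv g (ev 1) : Vec K 2) ≠ 0 := fun e => by
    have := mv_inv_of g e
    rw [mv_zero] at this
    exact absurd this.symm (by simp [ev])
  obtain ⟨k, hk, hke⟩ := reach ((mv g (ev 1) (Sum.inl 0), mv g (ev 1) (Sum.inr 0)),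
    mv g (ev 1) (Sum.inl 1), mv g (ev 1) (Sum.inr 1)) (fun e => hne (by
      rw [← io_surj (mv g (ev 1)), e]; simp [io]))
  rw [io_surj] at hke
  suffices hg1 : k⁻¹ * g ∈ H by
    have := mul_mem hk hg1
    rwa [mul_inv_cancel_left] at this
  set g1 := k⁻¹ * g
  have e1 : mv g1 (ev 1) = ev 1 := by rw [mv_mul, mv_inv_of _ hke]
  set f' := mv g1 (fv 1) with hf'
  have hb : f' (Sum.inr 1) = 1 := by rw [hf', ← ev_bil (mv g1 (fv 1)), ← e1, bil_mv, bil_ef]
  obtain ⟨q, hq, hqe, hqf⟩ : ∃ q ∈ H, mv q (ev 1) = ev 1 ∧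
      mv q (fv 1) = io ((f' (Sum.inl 0), f' (Sum.inr 0)), 0, 1) := by
    by_cases hv : ((f' (Sum.inl 0), f' (Sum.inr 0)) : K × K) = 0
    · exact ⟨1, one_mem H, mv_one _, by rw [mv_one, hv]; simp [io]⟩
    · obtain ⟨q, hq, hqa⟩ := hQ (-(f' (Sum.inl 0), f' (Sum.inr 0))) (neg_ne_zero.2 hv)
      refine ⟨q, hq, ?_, ?_⟩
      · have := hqa (0, 0) 1 0
        simpa [io, w2] using this
      · have := hqa (0, 0) 0 1
        simpa [io, w2] using this
  let q' := q * emb 1 (uu (f' (Sum.inl 1)))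
  have hq' : q' ∈ H := mul_mem hq (h1 _)
  have e2 : mv q' (ev 1) = ev 1 := by
    rw [mv_mul, emb_uu, mv_TV, bil_self, mul_zero, zero_smul, add_zero, hqe]
  have e3 : mv q' (fv 1) = f' := by
    rw [mv_mul, emb_uu, mv_TV, mv_add, mv_smul, hqe, hqf]
    conv_rhs => rw [← io_surj f', hb]
    simp [io, bil_ev, fv]
    module
  have hg2 : q'⁻¹ * g1 ∈ Fx (fun i : Fin 2 => i = 0) := by
    intro i hi
    obtain rfl : i = 1 := by omega
    exact ⟨by rw [mv_mul, e1]; exact mv_inv_of _ e2, by rw [mv_mul]; exact mv_inv_of _ e3⟩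
  obtain ⟨y, hy⟩ := exists_emb hg2
  have := mul_mem hq' (show q'⁻¹ * g1 ∈ H from hy ▸ hφ y)
  rwa [mul_inv_cancel_left] at this

/-- An element acting trivially is trivial, for a group generated by `φ`, `s` and `x`. -/
theorem injective_of_rel [Finite K] (R : Rel4 j φ s x) (hj : ∀ t, t ∈ Subgroup.zpowers j)
    (π : G →* G4 K) (hπφ : ∀ g, π (φ g) = emb 0 g) (hπs : π s = swap4) (hπx : π x = x4)
    (hgen : Subgroup.closure (Set.range φ ∪ Set.range (σ φ s) ∪ {x}) = ⊤) :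
    Function.Injective π := by
  let ω : (K × K) →ₗ[K] (K × K) →ₗ[K] K := LinearMap.mk₂ K w2
    (fun a b c => by simp [w2]; ring) (fun r a c => by simp [w2]; ring)
    (fun a b c => by simp [w2]; ring) (fun r a c => by simp [w2]; ring)
  let ga : S2 K →* ((K × K) →ₗ[K] (K × K)) :=
    { toFun := fun g =>
        { toFun := mA g
          map_add' := fun a b => by simp [mA]; constructor <;> ring
          map_smul' := fun c a => by simp [mA]; constructor <;> ring }
      map_one' := LinearMap.ext mA_one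
      map_mul' := fun g h => LinearMap.ext (mA_mul g h) }
  have hσ : ∀ g, π (σ φ s g) = emb 1 g := fun g => by
    rw [σ_apply, map_mul, map_mul, map_inv, hπφ, hπs, swap4_emb]
  let S : Stage K (K × K) (S2 K) G (Vec K 2) :=
    { ω := ω
      alt := fun u => by simp [ω, w2]; ring
      nondeg := fun u hu => by
        by_cases h1 : u.1 = 0
        · have h2 : u.2 ≠ 0 := fun e => hu (Prod.ext h1 e)
          exact ⟨(-(u.2)⁻¹, 0), by simp [ω, w2, h2]⟩
        · exact ⟨(0, (u.1)⁻¹), by simp [ω, w2, h1]⟩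
      ga := ga
      ga_ω := fun h u v => w2_mA h u v
      ga_inj := fun h hh => mA_ext fun u => (hh u).trans (mA_one u).symm
      act := fun k v => mv (π k) v
      act_one := fun v => by simp only [map_one, mv_one]
      act_mul := fun a b v => by simp only [map_mul, mv_mul]
      ι := io
      ι_inj := io_injective
      σ := σ φ s
      η := φ
      Q := QF φ x
      τ := tau
      τ_eq := fun a c u => mA_tau a c u
      σ_act := fun g u α β => by rw [hσ]; exact emb1_io g u α β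
      η_act := fun g u α β => by rw [hπφ]; exact emb0_io g u α β
      Q_act := fun a u α β => by
        by_cases ha : a = 0
        · subst ha; simp [QF_zero, mv_one, ω, w2]
        rw [QF, if_neg ha, map_mul, map_mul, map_inv, hπφ, hπx]
        exact QF_io a u α β _ (gA_spec ha)
      R1 := fun g h => (R.comm h g).symm
      R2 := R2 R hj
      R3 := R3 R hj
      R4u := R4u R hj
      R4d := R4d R hj
      R5 := R5 R hj }
  have htop : S.K₀ = ⊤ := by
    rw [eq_top_iff, ← hgen, Subgroup.closure_le]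
    rintro y ((⟨g, rfl⟩ | ⟨g, rfl⟩) | (h : y = x))
    · exact S.η_mem g
    · exact S.σ_mem g
    · have := S.Q_mem ((1 : K), (0 : K))
      rwa [show S.Q = QF φ x from rfl, QF_base R hj, ← h] at this
  refine (injective_iff_map_eq_one π).2 fun k hk => S.faithful (htop ▸ Subgroup.mem_top k) fun t => ?_
  show mv (π k) _ = _
  rw [hk, mv_one]

theorem center_cases {g : G4 K} (hg : g ∈ Subgroup.center (G4 K)) :
    g = 1 ∨ ∀ v, mv g v = -v := by
  have h1 : ∀ (a : Vec K 2) v, bil K 2 v (mv g a) • mv g a = bil K 2 v a • a := by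
    intro a v
    have h := Subgroup.mem_center_iff.1 hg (TV a 1)
    rw [conj_TV] at h
    have := congrArg (fun u => mv u v) (mul_right_cancel h)
    simpa [mv_TV] using this.symm
  have hk : ∀ k : Fin 2, ∃ l : K, mv g (ev k) = l • ev k ∧ mv g (fv k) = l • fv k ∧ l * l = 1 := by
    intro k
    have he := h1 (ev k) (fv k)
    have hf := h1 (fv k) (ev k)
    rw [fv_bil, fv_bil] at he
    rw [ev_bil, ev_bil] at hf
    set m := mv g (ev k) (Sum.inl k) with hm
    set m' := mv g (fv k) (Sum.inr k) with hm'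
    have e1 : m * m = 1 := by
      have := congrFun he (Sum.inl k)
      simp [ev] at this
      simpa [hm, ev] using this
    have e2 : m' * m' = 1 := by
      have := congrFun hf (Sum.inr k)
      simp [fv] at this
      simpa [hm', fv] using this
    have hme : mv g (ev k) = m • ev k := by
      have h := congrArg (fun u => m • u) he
      simp only [ev, Pi.single_eq_same, neg_smul, smul_neg, neg_inj, one_smul, smul_smul] at h
      simpa [← hm, e1] using h
    have hmf : mv g (fv k) = m' • fv k := by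
      have h := congrArg (fun u => m' • u) hf
      simp only [fv, Pi.single_eq_same, one_smul, smul_smul] at h
      simpa [← hm', e2] using h
    have e3 : m * m' = 1 := by
      have := bil_mv g (ev k) (fv k)
      rw [hme, hmf, map_smul, LinearMap.map_smul, LinearMap.smul_apply, bil_ef] at this
      simpa [mul_comm] using this
    have : m' = m := by linear_combination m * e3 - m' * e1
    exact ⟨m, hme, by rw [hmf, this], e1⟩
  obtain ⟨l, hl0, hl0', hl⟩ := hk 0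
  obtain ⟨l', hl1, hl1', -⟩ := hk 1
  have heq : l = l' := by
    have h := congrArg (fun u => mv u (fv 0) (Sum.inl 1))
      (Subgroup.mem_center_iff.1 hg (TT (ev 0) (ev 1)))
    simp only [mv_mul, mv_TT bil01, hl0', hl1, mv_add, mv_smul, hl0] at h
    simp [bil_ev, ev, fv] at h
    linear_combination h
  subst heq
  rcases mul_self_eq_one_iff.1 hl with rfl | rfl
  · refine Or.inl (ext_basis (fun k => ?_) fun k => ?_) <;> fin_cases k <;>
      simp [mv_one, hl0, hl0', hl1, hl1']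
  · refine Or.inr fun v => ?_
    rw [← io_surj v]
    simp [io, mv_add, mv_smul, hl0, hl0', hl1, hl1']
    abel

end Cfsg.Agent.SpAmalgam.Four
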