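import Mathlib
import Cfsg.Prelude.Def_Classical
import Cfsg.Agent.Lib.SpAmalgam.SpFour
import Cfsg.Agent.Lib.SL2Pres.Main

/-!
`Sp₄(q)` on six generators and at most thirty-five relations, `PSp₄(q)` with one more.
-/

set_option autoImplicit false
set_option linter.unusedSimpArgs false

namespace Cfsg.Agent.SpAmalgam.Four

open Matrix
open scoped commutatorElement

theorem lift_eq_mk {α : Type*} (rels : Set (FreeGroup α)) :
    FreeGroup.lift (PresentedGroup.of (rels := rels)) = PresentedGroup.mk rels :=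
  FreeGroup.ext_hom _ _ fun i => by rw [FreeGroup.lift_apply_of]; rfl

theorem lift_of_one {α : Type*} {rels : Set (FreeGroup α)} {r : FreeGroup α} (hr : r ∈ rels) :
    FreeGroup.lift (PresentedGroup.of (rels := rels)) r = 1 := by
  rw [lift_eq_mk]; exact PresentedGroup.one_of_mem hr

/-- Adding a relator generating the centre presents the central quotient. -/
theorem quotient_pres {α : Type} {T : Type*} [Group T] (R : Finset (FreeGroup α))
    (π : PresentedGroup (↑R : Set (FreeGroup α)) →* T) (hπ : Function.Bijective π) (r : FreeGroup α)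
    (N : Subgroup T) [N.Normal] (hr : π (PresentedGroup.mk _ r) ∈ N)
    (hN : ∀ g ∈ N, g = 1 ∨ g = π (PresentedGroup.mk _ r)) [DecidableEq (FreeGroup α)] :
    Nonempty (PresentedGroup (↑(insert r R) : Set (FreeGroup α)) ≃* T ⧸ N) := by
  let S : Set (FreeGroup α) := ↑(insert r R)
  let τ : T →* T ⧸ N := QuotientGroup.mk' N
  have hlift : ∀ u : FreeGroup α, FreeGroup.lift (fun i => τ (π (PresentedGroup.of i))) u =
      τ (π (PresentedGroup.mk _ u)) := fun u =>
    DFunLike.congr_fun (f := FreeGroup.lift fun i => τ (π (PresentedGroup.of i)))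
      (g := (τ.comp π).comp (PresentedGroup.mk _))
      (FreeGroup.ext_hom _ _ fun i => by rw [FreeGroup.lift_apply_of]; rfl) u
  have h1 : ∀ u ∈ S, FreeGroup.lift (fun i => τ (π (PresentedGroup.of i))) u = 1 := by
    intro u hu
    rw [hlift]
    rcases Finset.mem_insert.1 (Finset.mem_coe.1 hu) with rfl | hu
    · exact (QuotientGroup.eq_one_iff _).2 hr
    · rw [PresentedGroup.one_of_mem (Finset.mem_coe.2 hu), map_one, map_one]
  let f := PresentedGroup.toGroup h1
  have h2 : ∀ u ∈ (↑R : Set (FreeGroup α)), FreeGroup.lift (PresentedGroup.of (rels := S)) u = 1 :=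
    fun u hu => lift_of_one (Finset.mem_coe.2 (Finset.mem_insert_of_mem (Finset.mem_coe.1 hu)))
  let g := PresentedGroup.toGroup h2
  have hg : ∀ u, g (PresentedGroup.mk _ u) = PresentedGroup.mk S u := fun u => by
    show PresentedGroup.toGroup h2 _ = _
    exact DFunLike.congr_fun (f := (PresentedGroup.toGroup h2).comp (PresentedGroup.mk _))
      (g := PresentedGroup.mk S) (FreeGroup.ext_hom _ _ fun i => PresentedGroup.toGroup.of h2) u
  let e := MulEquiv.ofBijective π hπ
  have hker : N ≤ (g.comp e.symm.toMonoidHom).ker := by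
    intro t ht
    rw [MonoidHom.mem_ker, MonoidHom.comp_apply]
    rcases hN t ht with rfl | rfl
    · rw [map_one, map_one]
    · show g (e.symm (e _)) = 1
      rw [e.symm_apply_apply, hg]
      exact PresentedGroup.one_of_mem (Finset.mem_coe.2 (Finset.mem_insert_self _ _))
  let h := QuotientGroup.lift N (g.comp e.symm.toMonoidHom) hker
  refine ⟨MonoidHom.toMulEquiv f h ?_ ?_⟩
  · refine PresentedGroup.ext fun i => ?_
    show h (f (PresentedGroup.of i)) = PresentedGroup.of i
    rw [show f (PresentedGroup.of i) = τ (π (PresentedGroup.of i)) from PresentedGroup.toGroup.of h1]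
    show g (e.symm (e _)) = _
    rw [e.symm_apply_apply]
    exact PresentedGroup.toGroup.of h2
  · refine QuotientGroup.monoidHom_ext N ?_
    refine MonoidHom.ext fun t => ?_
    obtain ⟨p, rfl⟩ := hπ.2 t
    show f (g (e.symm (e p))) = τ (π p)
    rw [e.symm_apply_apply]
    exact DFunLike.congr_fun (f := f.comp g) (g := τ.comp π) (PresentedGroup.ext fun i => by
      rw [MonoidHom.comp_apply, show g (PresentedGroup.of i) = PresentedGroup.of i from
        PresentedGroup.toGroup.of h2]
      exact PresentedGroup.toGroup.of h1) p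

set_option maxHeartbeats 2000000 in
theorem main_sharp {K : Type*} [Field K] [Fintype K] :
    (∃ rels : Finset (FreeGroup (Fin 6)), rels.card ≤ 27 ∧
      Nonempty (PresentedGroup (↑rels : Set (FreeGroup (Fin 6))) ≃* G4 K)) ∧
    (∃ rels : Finset (FreeGroup (Fin 6)), rels.card ≤ 28 ∧
      Nonempty (PresentedGroup (↑rels : Set (FreeGroup (Fin 6))) ≃* Cfsg.PSp 2 K)) := by
  classical
  obtain ⟨⟨R0, hR0, ⟨e⟩⟩, -⟩ := SL2Pres.main (K := K)
  obtain ⟨j, hj⟩ := IsCyclic.exists_generator (α := Kˣ)
  have hsurj : Function.Surjective (PresentedGroup.mk (↑R0 : Set (FreeGroup (Fin 3)))) :=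
    PresentedGroup.mk_surjective _
  let pre : S2 K → FreeGroup (Fin 3) := fun g => (hsurj (e.symm g)).choose
  have hpre : ∀ g, PresentedGroup.mk (↑R0 : Set (FreeGroup (Fin 3))) (pre g) = e.symm g :=
    fun g => (hsurj (e.symm g)).choose_spec
  let ca : Fin 3 → Fin 6 := Fin.castLE (by norm_num)
  let W : S2 K → FreeGroup (Fin 6) := fun g => FreeGroup.map ca (pre g)
  let gi : Fin 3 → S2 K := fun i => e (PresentedGroup.of i)
  let S : FreeGroup (Fin 6) := FreeGroup.of 3
  let Xw : FreeGroup (Fin 6) := FreeGroup.of 4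
  -- a word for the exchange
  let P := FreeGroup.lift (Sum.elim (fun g => emb (0 : Fin 2) g)
    (Sum.elim (fun g => emb (1 : Fin 2) g) fun (_ : Unit) => (x4 : G4 K)))
  have hP : P.range = ⊤ := top_of_mem _ (fun g => ⟨FreeGroup.of (Sum.inl g), FreeGroup.lift_apply_of⟩)
    (fun g => ⟨FreeGroup.of (Sum.inr (Sum.inl g)), FreeGroup.lift_apply_of⟩)
    ⟨FreeGroup.of (Sum.inr (Sum.inr ())), FreeGroup.lift_apply_of⟩
  obtain ⟨sw, hsw⟩ : (swap4 : G4 K) ∈ P.range := hP ▸ Subgroup.mem_top _
  let val : ∀ {G : Type}, [Group G] → (Fin 6 → G) → S2 K ⊕ S2 K ⊕ Unit → G := fun v =>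
    Sum.elim (fun g => FreeGroup.lift v (W g))
      (Sum.elim (fun g => v 3 * FreeGroup.lift v (W g) * (v 3)⁻¹) fun _ => v 4)
  let SW : FreeGroup (Fin 6) := FreeGroup.lift
    (Sum.elim W (Sum.elim (fun g => S * W g * S⁻¹) fun (_ : Unit) => Xw)) sw
  let Dj := W (dd j)
  let hrel : K → FreeGroup (Fin 6) := fun c =>
    if hc : c = 0 then 1 else W (ll c) * Xw * (W (ll c))⁻¹ *
      (Xw * (W (ss * dd (Units.mk0 c hc)) * Xw * (W (ss * dd (Units.mk0 c hc)))⁻¹) *
        (S * W (uu (-c)) * S⁻¹))⁻¹
  let L : List (FreeGroup (Fin 6)) := [S * S, ⁅S, Xw⁆,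
    Dj * Xw * Dj⁻¹ * (S * Dj * S⁻¹ * Xw * (S * Dj * S⁻¹)⁻¹)⁻¹,
    ⁅W (uu 1), Xw⁆, ⁅W (uu (j : K)), Xw⁆, hrel 1, hrel j, S * SW⁻¹, FreeGroup.of 5]
  let rels : Finset (FreeGroup (Fin 6)) := R0.image (FreeGroup.map ca) ∪
    (Finset.univ.image fun p : Fin 3 × Fin 3 => ⁅W (gi p.1), S * W (gi p.2) * S⁻¹⁆) ∪ L.toFinset
  have hcard : rels.card ≤ 27 := by
    refine (Finset.card_union_le _ _).trans ?_
    have h1 := (Finset.card_union_le (R0.image (FreeGroup.map ca))
      (Finset.univ.image fun p : Fin 3 × Fin 3 => ⁅W (gi p.1), S * W (gi p.2) * S⁻¹⁆))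
    have h2 := (Finset.card_image_le (s := R0) (f := FreeGroup.map ca))
    have h3 := (Finset.card_image_le (s := (Finset.univ : Finset (Fin 3 × Fin 3)))
      (f := fun p => ⁅W (gi p.1), S * W (gi p.2) * S⁻¹⁆))
    have h4 := List.toFinset_card_le L
    have h5 : L.length = 9 := rfl
    rw [Finset.card_univ, Fintype.card_prod, Fintype.card_fin] at h3
    omega
  -- the map onto the group
  let vT : Fin 6 → G4 K := ![emb 0 (gi 0), emb 0 (gi 1), emb 0 (gi 2), swap4, x4, 1]
  have hWT : ∀ g, FreeGroup.lift vT (W g) = emb 0 g := by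
    intro g
    have e1 : (FreeGroup.lift vT).comp (FreeGroup.map ca) =
        ((emb 0).comp e.toMonoidHom).comp (PresentedGroup.mk _) :=
      FreeGroup.ext_hom _ _ fun i => by fin_cases i <;> simp [vT, ca, gi, PresentedGroup.of] <;> rfl
    have := DFunLike.congr_fun e1 (pre g)
    simp only [MonoidHom.comp_apply, hpre] at this
    simpa [W] using this
  have hST : FreeGroup.lift vT S = swap4 := by simp [S, vT]
  have hXT : FreeGroup.lift vT Xw = x4 := by simp [Xw, vT]
  have R := rel4_sp (K := K) j
  have hT : ∀ r ∈ (↑rels : Set (FreeGroup (Fin 6))), FreeGroup.lift vT r = 1 := by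
    intro r hr
    simp only [rels, Finset.coe_union, Set.mem_union, Finset.coe_image, Set.mem_image, Finset.mem_coe,
      List.mem_toFinset, Finset.coe_univ, Set.mem_univ, true_and] at hr
    rcases hr with (⟨r0, hr0, rfl⟩ | ⟨⟨a, b⟩, rfl⟩) | hr
    · have e1 : (FreeGroup.lift vT).comp (FreeGroup.map ca) =
          ((emb 0).comp e.toMonoidHom).comp (PresentedGroup.mk _) :=
        FreeGroup.ext_hom _ _ fun i => by fin_cases i <;> simp [vT, ca, gi, PresentedGroup.of] <;> rfl
      have := DFunLike.congr_fun e1 r0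
      simp only [MonoidHom.comp_apply, PresentedGroup.one_of_mem (Finset.mem_coe.2 hr0), map_one] at this
      exact this
    · rw [map_commutatorElement, map_mul, map_mul, map_inv, hWT, hWT, hST]
      exact commutatorElement_eq_one_iff_commute.2 (R.comm _ _)
    · simp only [L, List.mem_cons, List.not_mem_nil, or_false] at hr
      rcases hr with rfl | rfl | rfl | rfl | rfl | rfl | rfl | rfl | rfl
      · rw [map_mul, hST]; exact R.s2
      · rw [map_commutatorElement, hST, hXT]
        exact commutatorElement_eq_one_iff_commute.2 R.sx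
      · simp only [Dj, map_mul, map_inv, hWT, hST, hXT]
        exact mul_inv_eq_one.2 R.dx
      · rw [map_commutatorElement, hWT, hXT]
        exact commutatorElement_eq_one_iff_commute.2 (R.ux 1 (Or.inl rfl))
      · rw [map_commutatorElement, hWT, hXT]
        exact commutatorElement_eq_one_iff_commute.2 (R.ux j (Or.inr rfl))
      · simp only [hrel, dif_neg (one_ne_zero (α := K)), map_mul, map_inv, hWT, hST, hXT]
        exact mul_inv_eq_one.2 (by simpa only [map_mul] using R.hr 1 (Or.inl rfl) one_ne_zero)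
      · simp only [hrel, dif_neg (Units.ne_zero j), map_mul, map_inv, hWT, hST, hXT]
        exact mul_inv_eq_one.2 (by simpa only [map_mul] using R.hr j (Or.inr rfl) (Units.ne_zero j))
      · rw [map_mul, map_inv, hST, mul_inv_eq_one, ← hsw]
        refine (DFunLike.congr_fun (f := (FreeGroup.lift vT).comp (FreeGroup.lift _)) (g := P)
          (FreeGroup.ext_hom _ _ fun i => ?_) sw).symm
        rcases i with g | g | u
        · simp [P, hWT]
        · simp [P, hWT, hST, swap4_emb]
        · simp [P, hXT]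
      · simp [vT]
  let π := PresentedGroup.toGroup hT
  -- the consequences in the presented group
  let v : Fin 6 → PresentedGroup (↑rels : Set (FreeGroup (Fin 6))) := PresentedGroup.of
  have hv : ∀ r ∈ rels, FreeGroup.lift v r = 1 := fun r hr => lift_of_one (Finset.mem_coe.2 hr)
  have hL : ∀ r ∈ L, FreeGroup.lift v r = 1 := fun r hr =>
    hv r (Finset.mem_union_right _ (List.mem_toFinset.2 hr))
  have hφ0 : ∀ r ∈ (↑R0 : Set (FreeGroup (Fin 3))), FreeGroup.lift (v ∘ ca) r = 1 := fun r hr => by
    have e1 : FreeGroup.lift (v ∘ ca) = (FreeGroup.lift v).comp (FreeGroup.map ca) :=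
      FreeGroup.ext_hom _ _ fun i => by simp
    rw [e1]
    exact hv _ (Finset.mem_union_left _ (Finset.mem_union_left _ (Finset.mem_image_of_mem _ hr)))
  let φ : S2 K →* PresentedGroup (↑rels : Set (FreeGroup (Fin 6))) :=
    (PresentedGroup.toGroup hφ0).comp e.symm.toMonoidHom
  have hφW : ∀ g, FreeGroup.lift v (W g) = φ g := by
    intro g
    have e1 : (FreeGroup.lift v).comp (FreeGroup.map ca) =
        (PresentedGroup.toGroup hφ0).comp (PresentedGroup.mk _) :=
      FreeGroup.ext_hom _ _ fun i => by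
        rw [MonoidHom.comp_apply, MonoidHom.comp_apply, FreeGroup.map.of, FreeGroup.lift_apply_of]
        exact (PresentedGroup.toGroup.of hφ0).symm
    have := DFunLike.congr_fun e1 (pre g)
    simp only [MonoidHom.comp_apply, hpre] at this
    exact this
  let s := v 3
  let x := v 4
  have hvS : FreeGroup.lift v S = s := FreeGroup.lift_apply_of
  have hvX : FreeGroup.lift v Xw = x := FreeGroup.lift_apply_of
  have hclos : Subgroup.closure (Set.range fun i => φ (gi i)) = φ.range := by
    rw [show (Set.range fun i => φ (gi i)) =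
        (φ.comp e.toMonoidHom) '' Set.range (PresentedGroup.of (rels := (↑R0 : Set (FreeGroup (Fin 3))))) by
      rw [← Set.range_comp]; rfl, ← MonoidHom.map_closure, PresentedGroup.closure_range_of,
      ← MonoidHom.range_eq_map, MonoidHom.range_comp, MonoidHom.range_eq_top_of_surjective _ e.surjective,
      ← MonoidHom.range_eq_map]
  have hcomm : ∀ g h, Commute (φ g) (s * φ h * s⁻¹) := by
    have base : ∀ a b, Commute (φ (gi a)) (s * φ (gi b) * s⁻¹) := fun a b => by
      have := hv ⁅W (gi a), S * W (gi b) * S⁻¹⁆ (Finset.mem_union_left _ (Finset.mem_union_right _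
        (Finset.mem_image.2 ⟨(a, b), Finset.mem_univ _, rfl⟩)))
      rw [map_commutatorElement, map_mul, map_mul, map_inv, hφW, hφW, hvS] at this
      exact commutatorElement_eq_one_iff_commute.1 this
    intro g h
    have h1 : ∀ a, Commute (φ (gi a)) (s * φ h * s⁻¹) := fun a => by
      have : φ.range ≤ (Subgroup.centralizer {φ (gi a)}).comap (MulAut.conj s).toMonoidHom := by
        rw [← hclos, Subgroup.closure_le]
        rintro _ ⟨b, rfl⟩
        exact Subgroup.mem_centralizer_singleton_iff.2 (base a b).symm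
      exact (Subgroup.mem_centralizer_singleton_iff.1 (this ⟨h, rfl⟩)).symm
    have : φ.range ≤ Subgroup.centralizer {s * φ h * s⁻¹} := by
      rw [← hclos, Subgroup.closure_le]
      rintro _ ⟨a, rfl⟩
      exact Subgroup.mem_centralizer_singleton_iff.2 (h1 a)
    exact Subgroup.mem_centralizer_singleton_iff.1 (this ⟨g, rfl⟩)
  simp only [L, List.mem_cons, List.not_mem_nil, or_false, forall_eq_or_imp, forall_eq] at hL
  obtain ⟨l1, l2, l3, l4, l5, l6, l7, l8, l9⟩ := hL
  rw [map_mul, hvS] at l1
  rw [map_commutatorElement, hvS, hvX] at l2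
  simp only [Dj, map_mul, map_inv, hφW, hvS, hvX] at l3
  rw [map_commutatorElement, hφW, hvX] at l4 l5
  simp only [hrel, dif_neg (one_ne_zero (α := K)), map_mul, map_inv, hφW, hvS, hvX] at l6
  simp only [hrel, dif_neg (Units.ne_zero j), map_mul, map_inv, hφW, hvS, hvX] at l7
  have RG : Rel4 j φ s x :=
    { comm := hcomm
      s2 := l1
      sx := commutatorElement_eq_one_iff_commute.1 l2
      dx := mul_inv_eq_one.1 l3
      ux := by
        rintro c (rfl | rfl)
        · exact commutatorElement_eq_one_iff_commute.1 l4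
        · exact commutatorElement_eq_one_iff_commute.1 l5
      hr := by
        rintro c (rfl | rfl) hc
        · exact mul_inv_eq_one.1 (by rw [map_mul]; exact l6)
        · exact mul_inv_eq_one.1 (by rw [map_mul]; exact l7) }
  have hgen : Subgroup.closure (Set.range φ ∪ Set.range (σ φ s) ∪ {x}) = ⊤ := by
    set C := Subgroup.closure (Set.range φ ∪ Set.range (σ φ s) ∪ {x})
    have hxC : x ∈ C := Subgroup.subset_closure (Or.inr rfl)
    have hsC : s ∈ C := by
      rw [map_mul, map_inv, hvS, mul_inv_eq_one] at l8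
      rw [l8]
      have : ∀ u, FreeGroup.lift v (FreeGroup.lift (Sum.elim W (Sum.elim (fun g => S * W g * S⁻¹)
          fun (_ : Unit) => Xw)) u) ∈ C := by
        intro u
        induction u using FreeGroup.induction_on with
        | C1 => simp
        | of i =>
          rcases i with g | g | t
          · simp only [FreeGroup.lift_apply_of, Sum.elim_inl, hφW]
            exact Subgroup.subset_closure (Or.inl (Or.inl ⟨g, rfl⟩))
          · simp only [FreeGroup.lift_apply_of, Sum.elim_inl, Sum.elim_inr, map_mul, map_inv, hφW, hvS]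
            exact Subgroup.subset_closure (Or.inl (Or.inr ⟨g, rfl⟩))
          · simp only [FreeGroup.lift_apply_of, Sum.elim_inr, hvX]
            exact hxC
        | inv_of i hi => simpa only [map_inv] using inv_mem hi
        | mul a b ha hb => rw [map_mul, map_mul]; exact mul_mem ha hb
      exact this sw
    rw [eq_top_iff, ← PresentedGroup.closure_range_of, Subgroup.closure_le]
    rintro _ ⟨i, rfl⟩
    have hg : ∀ a : Fin 3, v (ca a) ∈ C := fun a => by
      refine Subgroup.subset_closure (Or.inl (Or.inl ⟨gi a, ?_⟩))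
      show PresentedGroup.toGroup hφ0 (e.symm (e _)) = _
      rw [e.symm_apply_apply]
      exact PresentedGroup.toGroup.of hφ0
    fin_cases i
    · exact hg 0
    · exact hg 1
    · exact hg 2
    · exact hsC
    · exact hxC
    · rw [FreeGroup.lift_apply_of] at l9
      show v 5 ∈ C
      rw [l9]; exact one_mem C
  have hπv : ∀ u, π (FreeGroup.lift v u) = FreeGroup.lift vT u := fun u =>
    DFunLike.congr_fun (f := π.comp (FreeGroup.lift v)) (g := FreeGroup.lift vT)
      (FreeGroup.ext_hom _ _ fun i => by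
        rw [MonoidHom.comp_apply, FreeGroup.lift_apply_of, FreeGroup.lift_apply_of]
        exact PresentedGroup.toGroup.of hT) u
  have hπφ : ∀ g, π (φ g) = emb 0 g := fun g => by rw [← hφW, hπv, hWT]
  have hπs : π s = swap4 := PresentedGroup.toGroup.of hT
  have hπx : π x = x4 := PresentedGroup.toGroup.of hT
  have hbij : Function.Bijective π := by
    refine ⟨injective_of_rel RG hj π hπφ hπs hπx hgen, ?_⟩
    rw [← MonoidHom.range_eq_top]
    exact top_of_mem _ (fun g => ⟨φ g, hπφ g⟩)
      (fun g => ⟨s * φ g * s⁻¹, by rw [map_mul, map_mul, map_inv, hπφ, hπs, swap4_emb]⟩) ⟨x, hπx⟩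
  refine ⟨⟨rels, hcard, ⟨MulEquiv.ofBijective π hbij⟩⟩, ?_⟩
  let r := W (dd (-1)) * (S * W (dd (-1)) * S⁻¹)
  refine ⟨insert r rels, (Finset.card_insert_le _ _).trans (by omega), ?_⟩
  have hz : ∀ w, mv (π (PresentedGroup.mk _ r)) w = -w := by
    intro w
    rw [show PresentedGroup.mk (↑rels : Set (FreeGroup (Fin 6))) r = FreeGroup.lift v r by
      rw [lift_eq_mk], hπv]
    simp only [r, map_mul, map_inv, hWT, hST, swap4_emb]
    rw [← io_surj w, mv_mul, emb1_io, emb0_io]
    simp [io, mA, dd_val]
    abel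
  refine quotient_pres rels π hbij r (Subgroup.center (G4 K)) ?_ ?_
  · refine Subgroup.mem_center_iff.2 fun g => ext_mv fun w => ?_
    rw [mv_mul, mv_mul, hz, hz, ← neg_one_smul K, mv_smul, neg_one_smul]
  · intro g hg
    rcases center_cases hg with h | h
    · exact Or.inl h
    · exact Or.inr (ext_mv fun w => by rw [h, hz])

theorem main {K : Type*} [Field K] [Fintype K] :
    (∃ rels : Finset (FreeGroup (Fin 6)), rels.card ≤ 35 ∧
      Nonempty (PresentedGroup (↑rels : Set (FreeGroup (Fin 6))) ≃* G4 K)) ∧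
    (∃ rels : Finset (FreeGroup (Fin 6)), rels.card ≤ 36 ∧
      Nonempty (PresentedGroup (↑rels : Set (FreeGroup (Fin 6))) ≃* Cfsg.PSp 2 K)) :=
  let ⟨⟨R, h1, h2⟩, ⟨R', h1', h2'⟩⟩ := main_sharp (K := K)
  ⟨⟨R, h1.trans (by norm_num), h2⟩, ⟨R', h1'.trans (by norm_num), h2'⟩⟩

end Cfsg.Agent.SpAmalgam.Four
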